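import Cfsg.Agent.H951.Lin
import Cfsg.Agent.ClassicalGeometry.SubspaceFrames
set_option linter.all false
/-!
# The number of `k`-subspaces and its prime divisors; flags and complementary pairs
-/

set_option autoImplicit false

namespace Cfsg.Agent.H950

open Module

lemma dvd_pow_sub_one_iff {q r a : ℕ} (hq : 1 ≤ q) : r ∣ q ^ a - 1 ↔ orderOf (q : ZMod r) ∣ a := by
  rw [orderOf_dvd_iff_pow_eq_one, ← ZMod.natCast_eq_zero_iff, Nat.cast_sub (Nat.one_le_pow _ _ hq)]
  push_cast
  rw [sub_eq_zero]

section Count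

variable {F : Type*} [Field F] [Fintype F] {V : Type*} [AddCommGroup V] [Module F V] [FiniteDimensional F V]

/-- `N(n,k) ∏_{j<k} (q^{k-j} - 1) = ∏_{j<k} (q^{n-j} - 1)`. -/
lemma card_subspaces_eq {n k q : ℕ} (hV : finrank F V = n) (hk : k ≤ n)
    (hq : Fintype.card F = q) :
    Nat.card {W : Submodule F V // finrank F W = k} * ∏ j : Fin k, (q ^ (k - j.val) - 1)
      = ∏ j : Fin k, (q ^ (n - j.val) - 1) := by
  classical
  have hq0 : 0 < q := hq ▸ Fintype.card_pos
  have : Finite V := Module.finite_of_finite F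
  have hfac : ∀ N : ℕ, k ≤ N → ∏ j : Fin k, (q ^ N - q ^ j.val)
      = (∏ j : Fin k, q ^ j.val) * ∏ j : Fin k, (q ^ (N - j.val) - 1) := by
    intro N hN
    rw [← Finset.prod_mul_distrib]
    refine Finset.prod_congr rfl fun j _ => ?_
    rw [Nat.mul_sub, mul_one, ← pow_add, Nat.add_sub_cancel' (le_trans j.2.le hN)]
  have h1 := ClassicalGeometry.SubspaceFrames.card_subspaces_mul (F := F) (V := V) k (fun _ => True)
  have h2 : Nat.card {b : Fin k → V // LinearIndependent F b ∧ True} = ∏ j : Fin k, (q ^ n - q ^ j.val) := by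
    rw [Nat.card_congr (Equiv.subtypeEquivRight (q := fun b : Fin k → V => LinearIndependent F b)
      (fun b => iff_of_eq (and_true _)))]
    rw [card_linearIndependent (by rw [hV]; exact hk), hV, hq]
  have h3 : Nat.card {W : Submodule F V // finrank F W = k ∧ True}
      = Nat.card {W : Submodule F V // finrank F W = k} :=
    Nat.card_congr (Equiv.subtypeEquivRight (fun b => iff_of_eq (and_true _)))
  rw [h2, h3, hq, hfac k le_rfl, hfac n hk, mul_left_comm] at h1
  exact Nat.eq_of_mul_eq_mul_left (Finset.prod_pos fun j _ => pow_pos hq0 _) h1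

/-- A prime dividing the number of `k`-subspaces divides some `q^{n-j} - 1` with `j < k`. -/
lemma exists_of_dvd_card {n k q r : ℕ} (hV : finrank F V = n) (hk : k ≤ n) (hq : Fintype.card F = q)
    (hr : r.Prime) (h : r ∣ Nat.card {W : Submodule F V // finrank F W = k}) :
    ∃ j < k, r ∣ q ^ (n - j) - 1 := by
  have h1 : r ∣ ∏ j : Fin k, (q ^ (n - j.val) - 1) := by
    rw [← card_subspaces_eq hV hk hq]
    exact h.mul_right _
  rw [hr.prime.dvd_finsetProd_iff] at h1
  obtain ⟨j, -, hj⟩ := h1
  exact ⟨j, j.2, hj⟩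

/-- `r` does not divide `q` when it divides `q^a - 1`, `a > 0`. -/
lemma not_dvd_of_dvd_pow_sub_one {q r a : ℕ} (hr : r.Prime) (hq : 1 ≤ q) (ha : 0 < a) (h : r ∣ q ^ a - 1) :
    ¬ r ∣ q := by
  intro h1
  have h2 : r ∣ q ^ a := dvd_pow h1 ha.ne'
  have h3 : r ∣ 1 := by
    have := Nat.dvd_sub h2 h
    rwa [Nat.sub_sub_self (Nat.one_le_pow _ _ hq)] at this
  exact hr.one_lt.ne' (Nat.dvd_one.1 h3)

/-- The number of pairs `U ≤ W` of dimensions `a ≤ b`. -/
lemma card_flags {a b : ℕ} :
    Nat.card {P : Submodule F V × Submodule F V // P.1 ≤ P.2 ∧ finrank F P.1 = a ∧ finrank F P.2 = b}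
      = Nat.card {W : Submodule F V // finrank F W = b} *
        Nat.card {U : Submodule F (Fin b → F) // finrank F U = a} := by
  classical
  have : Finite V := Module.finite_of_finite F
  have : Finite (Submodule F V) := inferInstance
  have : Fintype {W : Submodule F V // finrank F W = b} := Fintype.ofFinite _
  have e : {P : Submodule F V × Submodule F V // P.1 ≤ P.2 ∧ finrank F P.1 = a ∧ finrank F P.2 = b}
      ≃ (Σ W : {W : Submodule F V // finrank F W = b}, {U : Submodule F W.1 // finrank F U = a}) :=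
    { toFun := fun P => ⟨⟨P.1.2, P.2.2.2⟩, ⟨P.1.1.comap P.1.2.subtype, by
        exact (Submodule.comapSubtypeEquivOfLe P.2.1).finrank_eq.trans P.2.2.1⟩⟩
      invFun := fun x => ⟨(x.2.1.map x.1.1.subtype, x.1.1), Submodule.map_subtype_le _ _, by
        exact (Submodule.equivMapOfInjective _ (Submodule.subtype_injective _) x.2.1).finrank_eq.symm.trans x.2.2,
        x.1.2⟩
      left_inv := fun P => by
        apply Subtype.ext
        apply Prod.ext
        · exact (Submodule.map_comap_subtype _ _).trans (inf_eq_right.2 P.2.1)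
        · rfl
      right_inv := fun x => by
        obtain ⟨⟨W, hW⟩, ⟨U, hU⟩⟩ := x
        refine Sigma.ext rfl (heq_of_eq ?_)
        apply Subtype.ext
        exact Submodule.comap_map_eq_of_injective (Submodule.subtype_injective _) _ }
  rw [Nat.card_congr e, Nat.card_sigma, Finset.sum_congr rfl
    (g := fun _ => Nat.card {U : Submodule F (Fin b → F) // finrank F U = a})]
  · rw [Finset.sum_const, smul_eq_mul, Finset.card_univ, ← Nat.card_eq_fintype_card]
  · rintro ⟨W, hW⟩ -
    have e1 : W ≃ₗ[F] (Fin b → F) := LinearEquiv.ofFinrankEq _ _ (by rw [hW, Module.finrank_fin_fun])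
    exact Nat.card_congr
      { toFun := fun U => ⟨U.1.map e1.toLinearMap, by
          rw [LinearEquiv.finrank_map_eq]; exact U.2⟩
        invFun := fun U => ⟨U.1.map e1.symm.toLinearMap, by
          rw [LinearEquiv.finrank_map_eq]; exact U.2⟩
        left_inv := fun U => Subtype.ext (by simp [← Submodule.map_comp])
        right_inv := fun U => Subtype.ext (by simp [← Submodule.map_comp]) }

/-- The number of `k`-subspaces equals the number of `(n-k)`-subspaces. -/
lemma card_subspaces_symm {n k : ℕ} (hV : finrank F V = n) (hk : k ≤ n) :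
    Nat.card {W : Submodule F V // finrank F W = n - k} = Nat.card {W : Submodule F V // finrank F W = k} := by
  classical
  set q := Fintype.card F with hq
  have hq1 : 1 < q := Fintype.one_lt_card
  have h1 := card_subspaces_eq (F := F) (V := V) hV hk rfl
  have h2 := card_subspaces_eq (F := F) (V := V) hV (Nat.sub_le n k) rfl
  rw [← hq] at h1 h2
  -- the `q`-factorial
  let P : ℕ → ℕ := fun N => ∏ j ∈ Finset.range N, (q ^ (j + 1) - 1)
  have hP : ∀ N, 0 < P N := fun N => Finset.prod_pos fun j _ =>
    Nat.sub_pos_of_lt (Nat.one_lt_pow (Nat.succ_ne_zero j) hq1)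
  have hfac : ∀ N l : ℕ, l ≤ N → (∏ j : Fin l, (q ^ (N - j.val) - 1)) * P (N - l) = P N := by
    intro N l hl
    rw [Fin.prod_univ_eq_prod_range (fun j => q ^ (N - j) - 1) l]
    induction l with
    | zero => simp
    | succ l ih =>
      rw [Finset.prod_range_succ, ← ih (by omega), mul_assoc]
      congr 1
      have : N - l = N - (l + 1) + 1 := by omega
      rw [this]
      change _ = ∏ j ∈ Finset.range (N - (l + 1) + 1), (q ^ (j + 1) - 1)
      rw [Finset.prod_range_succ, mul_comm]
  have e1 := hfac n k hk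
  have e2 := hfac k k le_rfl
  have e3 := hfac n (n - k) (Nat.sub_le _ _)
  have e4 := hfac (n - k) (n - k) le_rfl
  have e0 : P 0 = 1 := by simp [P]
  rw [Nat.sub_self, e0, mul_one] at e2 e4
  rw [Nat.sub_sub_self hk] at e3
  rw [e2] at h1
  rw [e4] at h2
  rw [← h1] at e1
  rw [← h2] at e3
  have h3 : Nat.card {W : Submodule F V // finrank F W = n - k} * (P (n - k) * P k)
      = Nat.card {W : Submodule F V // finrank F W = k} * (P (n - k) * P k) := by
    calc _ = Nat.card {W : Submodule F V // finrank F W = n - k} * P (n - k) * P k := by ring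
      _ = Nat.card {W : Submodule F V // finrank F W = k} * P k * P (n - k) := by rw [e3, e1]
      _ = _ := by ring
  exact Nat.eq_of_mul_eq_mul_right (Nat.mul_pos (hP _) (hP _)) h3

/-- A prime dividing the number of flags of dimensions `m, n - m` divides some `q^{n-j} - 1` with `j < 2m`. -/
lemma exists_of_dvd_card_flags {n m q r : ℕ} (hV : finrank F V = n) (hm : 2 * m ≤ n) (hq : Fintype.card F = q)
    (hr : r.Prime) (h : r ∣ Nat.card {P : Submodule F V × Submodule F V //
      P.1 ≤ P.2 ∧ finrank F P.1 = m ∧ finrank F P.2 = n - m}) :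
    ∃ j < 2 * m, r ∣ q ^ (n - j) - 1 := by
  rw [card_flags, card_subspaces_symm hV (by omega)] at h
  rcases hr.dvd_mul.1 h with h | h
  · obtain ⟨j, hj, h⟩ := exists_of_dvd_card hV (by omega) hq hr h
    exact ⟨j, by omega, h⟩
  · obtain ⟨j, hj, h⟩ := exists_of_dvd_card (Module.finrank_fin_fun F) (by omega) hq hr h
    exact ⟨m + j, by omega, by rwa [← Nat.sub_sub]⟩

/-- The number of complements of a subspace. -/
lemma card_compl (U : Submodule F V) :
    Nat.card {W : Submodule F V // IsCompl U W}
      = Fintype.card F ^ ((finrank F V - finrank F U) * finrank F U) := by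
  classical
  have : Finite V := Module.finite_of_finite F
  obtain ⟨W₀, hW₀⟩ := U.exists_isCompl
  let f₀ : {f : V →ₗ[F] U // ∀ x : U, f x = x} := U.isComplEquivProj ⟨W₀, hW₀⟩
  have e : {f : V →ₗ[F] U // ∀ x : U, f x = x} ≃ ((V ⧸ U) →ₗ[F] U) :=
    { toFun := fun f => U.liftQ (f.1 - f₀.1) (by
        intro x hx
        rw [LinearMap.mem_ker, LinearMap.sub_apply, f.2 ⟨x, hx⟩, f₀.2 ⟨x, hx⟩, sub_self])
      invFun := fun g => ⟨f₀.1 + g ∘ₗ U.mkQ, by
        intro x
        rw [LinearMap.add_apply, f₀.2 x, LinearMap.comp_apply, Submodule.mkQ_apply,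
          (Submodule.Quotient.mk_eq_zero U).2 x.2, map_zero, add_zero]⟩
      left_inv := fun f => by
        apply Subtype.ext
        change f₀.1 + _ = f.1
        rw [Submodule.liftQ_mkQ]
        abel
      right_inv := fun g => by
        apply Submodule.linearMap_qext
        rw [Submodule.liftQ_mkQ]
        change f₀.1 + g ∘ₗ U.mkQ - f₀.1 = _
        abel }
  rw [Nat.card_congr (U.isComplEquivProj.trans e)]
  have h := Module.natCard_eq_pow_finrank (K := F) (V := ((V ⧸ U) →ₗ[F] U))
  rw [h, Module.finrank_linearMap, Nat.card_eq_fintype_card]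
  congr 2
  have := U.finrank_quotient_add_finrank
  omega

/-- A prime dividing the number of complementary pairs with `dim U = m` either divides `q` or divides some
`q^{n-j} - 1` with `j < m`. -/
lemma exists_of_dvd_card_compl {n m q r : ℕ} (hV : finrank F V = n) (hm : m ≤ n) (hq : Fintype.card F = q)
    (hr : r.Prime) (hrq : ¬ r ∣ q) (h : r ∣ Nat.card {P : Submodule F V × Submodule F V //
      IsCompl P.1 P.2 ∧ finrank F P.1 = m}) :
    ∃ j < m, r ∣ q ^ (n - j) - 1 := by
  classical
  have : Finite V := Module.finite_of_finite F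
  have : Finite (Submodule F V) := inferInstance
  have : Fintype {W : Submodule F V // finrank F W = m} := Fintype.ofFinite _
  have e : {P : Submodule F V × Submodule F V // IsCompl P.1 P.2 ∧ finrank F P.1 = m}
      ≃ (Σ U : {U : Submodule F V // finrank F U = m}, {W : Submodule F V // IsCompl U.1 W}) :=
    { toFun := fun P => ⟨⟨P.1.1, P.2.2⟩, ⟨P.1.2, P.2.1⟩⟩
      invFun := fun x => ⟨(x.1.1, x.2.1), x.2.2, x.1.2⟩
      left_inv := fun P => rfl
      right_inv := fun x => rfl }
  rw [Nat.card_congr e, Nat.card_sigma, Finset.sum_congr rfl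
    (g := fun _ => q ^ ((n - m) * m))] at h
  · rw [Finset.sum_const, smul_eq_mul, Finset.card_univ, ← Nat.card_eq_fintype_card] at h
    rcases hr.dvd_mul.1 h with h | h
    · exact exists_of_dvd_card hV hm hq hr h
    · exact absurd (hr.dvd_of_dvd_pow h) hrq
  · rintro ⟨U, hU⟩ -
    rw [card_compl, hV, hU, hq]

end Count

end Cfsg.Agent.H950
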