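import Cfsg.Agent.LieClassical.HermCount
import Cfsg.Agent.ClassicalGeometry.HermLines
import Cfsg.Agent.ClassicalGeometry.HermFrame
set_option linter.all false
/-!
# The number of totally isotropic subspaces of the standard Hermitian space
-/

set_option autoImplicit false

namespace Cfsg.Agent.H950

open Cfsg Module Cfsg.Agent.LieClassical.HermBasic Cfsg.Agent.ClassicalGeometry

variable {F : Type*} [Field F] [Fintype F] {q n : ℕ}

/-- The number of nonzero isotropic vectors of `F^a`. -/
def isoNum (q a : ℕ) : ℕ :=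
  if Even a then (q ^ a - 1) * (q ^ (a - 1) + 1) else (q ^ a + 1) * (q ^ (a - 1) - 1)

lemma card_iso_ne_zero (hF : Fintype.card F = q ^ 2) (m : ℕ) :
    Nat.card {β : Fin m → F // hermForm m F q β β = 0 ∧ β ≠ 0} = isoNum q m := by
  classical
  have h := LieClassical.HermCount.card_isotropic hF m
  have h1 : Nat.card {v : Fin m → F // hermForm m F q v v = 0}
      = Nat.card {β : Fin m → F // hermForm m F q β β = 0 ∧ β ≠ 0} + 1 := by
    rw [Nat.card_eq_fintype_card, Nat.card_eq_fintype_card, Fintype.card_subtype, Fintype.card_subtype,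
      ← Finset.filter_filter]
    have h2 : (0 : Fin m → F) ∈ Finset.univ.filter (fun v : Fin m → F => hermForm m F q v v = 0) := by
      simp [herm_zero_left]
    rw [Finset.filter_ne', Finset.card_erase_of_mem h2]
    have := Finset.card_pos.2 ⟨_, h2⟩
    omega
  rw [h1] at h
  unfold isoNum
  omega

/-- Isotropic vectors in `W^⊥` outside `W`, for `W` totally isotropic of dimension `k`. -/
lemma card_ext (hF : Fintype.card F = q ^ 2) {k m : ℕ} (hn : n = k + (m + k)) {W : Submodule F (Fin n → F)}
    (hWk : finrank F W = k) (hW : ∀ u ∈ W, ∀ v ∈ W, hermForm n F q u v = 0) :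
    Nat.card {v : Fin n → F // v ∉ W ∧ (∀ w ∈ W, hermForm n F q v w = 0) ∧ hermForm n F q v v = 0}
      = (q ^ 2) ^ k * isoNum q m := by
  classical
  obtain ⟨e, g, f, hspan, hee, heg, hef, hgg, hgf, hff⟩ := HermFrame.exists_frame hF hn hWk hW
  have heW : ∀ i, e i ∈ W := fun i => by rw [← hspan]; exact Submodule.subset_span ⟨i, rfl⟩
  have hge : ∀ i j, hermForm n F q (g i) (e j) = 0 := fun i j => herm_eq_zero_swap hF (heg j i)
  -- the pairing with `f`
  set Θ : ((Fin k → F) × (Fin m → F)) →ₗ[F] (Fin n → F) :=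
    LinearMap.coprod (Fintype.linearCombination F e) (Fintype.linearCombination F g) with hΘ
  have hΘa : ∀ p, Θ p = ∑ i, p.1 i • e i + ∑ j, p.2 j • g j := fun p => by
    rw [hΘ, LinearMap.coprod_apply, Fintype.linearCombination_apply, Fintype.linearCombination_apply]
  have hΘf : ∀ p i, hermForm n F q (Θ p) (f i) = p.1 i := by
    intro p i
    rw [hΘa, herm_add_left, herm_sum_left, herm_sum_left]
    simp only [herm_smul_left, hef, hgf, mul_ite, mul_one, mul_zero, Finset.sum_const_zero, add_zero,
      Finset.sum_ite_eq', Finset.mem_univ, if_true]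
  have hΘg : ∀ p j, hermForm n F q (Θ p) (g j) = p.2 j := by
    intro p j
    rw [hΘa, herm_add_left, herm_sum_left, herm_sum_left]
    simp only [herm_smul_left, heg, hgg, mul_ite, mul_one, mul_zero, Finset.sum_const_zero, zero_add,
      Finset.sum_ite_eq', Finset.mem_univ, if_true]
  have hΘe : ∀ p j, hermForm n F q (Θ p) (e j) = 0 := by
    intro p j
    rw [hΘa, herm_add_left, herm_sum_left, herm_sum_left]
    simp only [herm_smul_left, hee, hge, mul_zero, Finset.sum_const_zero, add_zero]
  have hinj : Function.Injective Θ := by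
    intro p p' h
    refine Prod.ext (funext fun i => ?_) (funext fun j => ?_)
    · rw [← hΘf p i, ← hΘf p' i, h]
    · rw [← hΘg p j, ← hΘg p' j, h]
  -- the orthogonal complement of `W`
  set T : (Fin n → F) →ₗ[F] (Fin k → F) := LinearMap.pi fun i => HermFrame.leftFun q (e i) with hT
  have hTa : ∀ v i, T v i = hermForm n F q v (e i) := fun v i => rfl
  have hfe : ∀ i j, hermForm n F q (f i) (e j) = if i = j then 1 else 0 := by
    intro i j
    rw [herm_swap hF (e j) (f i), hef]
    split_ifs with h1 h2 h2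
    · exact one_pow q
    · exact absurd h1.symm h2
    · exact absurd h2.symm h1
    · exact zero_pow_q hF
  have hTsurj : Function.Surjective T := by
    intro c
    refine ⟨∑ i, c i • f i, funext fun j => ?_⟩
    rw [hTa, herm_sum_left]
    simp only [herm_smul_left, hfe, mul_ite, mul_one, mul_zero, Finset.sum_ite_eq', Finset.mem_univ, if_true]
  have hker : finrank F (LinearMap.ker T) = m + k := by
    have h1 := LinearMap.finrank_range_add_finrank_ker T
    rw [LinearMap.range_eq_top.2 hTsurj, finrank_top, finrank_fin_fun, finrank_fin_fun] at h1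
    omega
  have hrange : LinearMap.range Θ = LinearMap.ker T := by
    apply Submodule.eq_of_le_of_finrank_eq
    · rintro _ ⟨p, rfl⟩
      rw [LinearMap.mem_ker]
      funext i
      exact hΘe p i
    · rw [LinearMap.finrank_range_of_inj hinj, hker, finrank_prod, finrank_fin_fun, finrank_fin_fun, add_comm]
  have hperp : ∀ v, (∀ w ∈ W, hermForm n F q v w = 0) ↔ v ∈ LinearMap.range Θ := by
    intro v
    rw [hrange, LinearMap.mem_ker]
    constructor
    · intro h
      funext i
      exact h _ (heW i)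
    · intro h w hw
      rw [← hspan] at hw
      induction hw using Submodule.span_induction with
      | mem y hy =>
        obtain ⟨j, rfl⟩ := hy
        exact congrFun h j
      | zero => exact herm_zero_right hF _
      | add y z _ _ hy hz => rw [herm_add_right hF, hy, hz, add_zero]
      | smul a y _ hy => rw [herm_smul_right, hy, mul_zero]
  have hmemW : ∀ p, Θ p ∈ W ↔ p.2 = 0 := by
    intro p
    constructor
    · intro h
      funext j
      rw [← hΘg p j]
      rw [← hspan] at h
      generalize Θ p = z at h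
      induction h using Submodule.span_induction with
      | mem y hy =>
        obtain ⟨i, rfl⟩ := hy
        exact heg i j
      | zero => exact herm_zero_left _
      | add y z _ _ hy hz => rw [herm_add_left, hy, hz]; simp
      | smul a y _ hy => rw [herm_smul_left, hy]; simp
    · intro h
      rw [hΘa, h]
      simp only [Pi.zero_apply, zero_smul, Finset.sum_const_zero, add_zero]
      exact Submodule.sum_mem _ fun i _ => W.smul_mem _ (heW i)
  have hself : ∀ p, hermForm n F q (Θ p) (Θ p) = hermForm m F q p.2 p.2 := by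
    intro p
    conv_lhs => rw [hΘa p]
    rw [herm_add_right hF, herm_sum_right hF, herm_sum_right hF]
    simp only [herm_smul_right]
    rw [← hΘa p]
    simp only [hΘe, hΘg, mul_zero, Finset.sum_const_zero, zero_add]
    rw [LieClassical.HermBasic.herm_def]
    exact Finset.sum_congr rfl fun j _ => mul_comm _ _
  have e1 : {v : Fin n → F // v ∉ W ∧ (∀ w ∈ W, hermForm n F q v w = 0) ∧ hermForm n F q v v = 0}
      ≃ (Fin k → F) × {β : Fin m → F // hermForm m F q β β = 0 ∧ β ≠ 0} :=
    (Equiv.ofBijective (fun p : (Fin k → F) × {β : Fin m → F // hermForm m F q β β = 0 ∧ β ≠ 0} =>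
      (⟨Θ (p.1, p.2.1), fun h => p.2.2.2 ((hmemW _).1 h), (hperp _).2 ⟨_, rfl⟩,
        by rw [hself]; exact p.2.2.1⟩ :
        {v : Fin n → F // v ∉ W ∧ (∀ w ∈ W, hermForm n F q v w = 0) ∧ hermForm n F q v v = 0}))
      ⟨by
        rintro ⟨a, b⟩ ⟨a', b'⟩ h
        have h1 := hinj (congrArg Subtype.val h)
        exact Prod.ext (Prod.ext_iff.1 h1).1 (Subtype.ext (Prod.ext_iff.1 h1).2),
       by
        rintro ⟨v, hv1, hv2, hv3⟩
        obtain ⟨p, rfl⟩ := (hperp v).1 hv2
        exact ⟨(p.1, ⟨p.2, by rw [← hself]; exact hv3, fun h => hv1 ((hmemW p).2 h)⟩), rfl⟩⟩).symm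
  rw [Nat.card_congr e1, Nat.card_prod, card_iso_ne_zero hF, Nat.card_fun, Nat.card_eq_fintype_card,
    Nat.card_eq_fintype_card, Fintype.card_fin, hF]

/-- Totally isotropic linearly independent `k`-frames. -/
abbrev TIFrame (n : ℕ) (F : Type*) [Field F] (q k : ℕ) : Type _ :=
  {b : Fin k → (Fin n → F) // LinearIndependent F b ∧ ∀ i j, hermForm n F q (b i) (b j) = 0}

lemma card_frame_succ (hF : Fintype.card F = q ^ 2) {k : ℕ} (hk : 2 * k ≤ n) :
    Nat.card (TIFrame n F q (k + 1)) = Nat.card (TIFrame n F q k) * ((q ^ 2) ^ k * isoNum q (n - 2 * k)) := by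
  classical
  have : Finite (Fin n → F) := inferInstance
  have : Fintype (TIFrame n F q k) := Fintype.ofFinite _
  have e : TIFrame n F q (k + 1) ≃ (Σ b : TIFrame n F q k,
      {v : Fin n → F // v ∉ Submodule.span F (Set.range b.1) ∧
        (∀ w ∈ Submodule.span F (Set.range b.1), hermForm n F q v w = 0) ∧ hermForm n F q v v = 0}) :=
    { toFun := fun b => ⟨⟨Fin.tail b.1, by
          have h := b.2.1
          rw [← Fin.cons_self_tail b.1, linearIndependent_finCons] at h
          exact ⟨h.1, fun i j => b.2.2 i.succ j.succ⟩⟩, ⟨b.1 0, by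
          have h := b.2.1
          rw [← Fin.cons_self_tail b.1, linearIndependent_finCons] at h
          refine ⟨h.2, ?_, b.2.2 0 0⟩
          intro w hw
          induction hw using Submodule.span_induction with
          | mem y hy =>
            obtain ⟨j, rfl⟩ := hy
            exact b.2.2 0 j.succ
          | zero => exact herm_zero_right hF _
          | add y z _ _ hy hz => rw [herm_add_right hF, hy, hz, add_zero]
          | smul a y _ hy => rw [herm_smul_right, hy, mul_zero]⟩⟩
      invFun := fun x => ⟨Fin.cons x.2.1 x.1.1, by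
          rw [linearIndependent_finCons]; exact ⟨x.1.2.1, x.2.2.1⟩, by
          intro i j
          refine Fin.cases ?_ (fun i' => ?_) i
          · refine Fin.cases ?_ (fun j' => ?_) j
            · exact x.2.2.2.2
            · exact x.2.2.2.1 _ (Submodule.subset_span ⟨j', rfl⟩)
          · refine Fin.cases ?_ (fun j' => ?_) j
            · exact herm_eq_zero_swap hF (x.2.2.2.1 _ (Submodule.subset_span ⟨i', rfl⟩))
            · exact x.1.2.2 i' j'⟩
      left_inv := fun b => Subtype.ext (Fin.cons_self_tail b.1)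
      right_inv := fun x => rfl }
  rw [Nat.card_congr e, Nat.card_sigma, Finset.sum_congr rfl (g := fun _ => (q ^ 2) ^ k * isoNum q (n - 2 * k))]
  · rw [Finset.sum_const, smul_eq_mul, Finset.card_univ, ← Nat.card_eq_fintype_card]
  · rintro ⟨b, hb, hb0⟩ -
    have hfr : finrank F (Submodule.span F (Set.range b)) = k := by
      rw [finrank_span_eq_card hb, Fintype.card_fin]
    exact card_ext hF (k := k) (m := n - 2 * k) (by omega) hfr ((HermLines.span_isotropic_iff hF b).2 hb0)

lemma card_frame (hF : Fintype.card F = q ^ 2) {k : ℕ} (hk : 2 * k ≤ n) :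
    Nat.card (TIFrame n F q k) = ∏ j ∈ Finset.range k, ((q ^ 2) ^ j * isoNum q (n - 2 * j)) := by
  induction k with
  | zero =>
    rw [Finset.range_zero, Finset.prod_empty, Nat.card_eq_one_iff_unique]
    exact ⟨⟨fun a b => Subtype.ext (Subsingleton.elim _ _)⟩,
      ⟨⟨fun i => i.elim0, linearIndependent_empty_type, fun i => i.elim0⟩⟩⟩
  | succ k ih =>
    rw [card_frame_succ hF (by omega), ih (by omega), Finset.prod_range_succ]

/-- `N ∏_{j<k} (q^{2(k-j)} - 1) = ∏_{j<k} isoNum (n - 2j)`. -/
lemma card_ti_eq (hF : Fintype.card F = q ^ 2) {k : ℕ} (hk : 2 * k ≤ n) :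
    Nat.card {W : Submodule F (Fin n → F) // finrank F W = k ∧ (∀ u ∈ W, ∀ v ∈ W, hermForm n F q u v = 0)} *
      ∏ j ∈ Finset.range k, ((q ^ 2) ^ (k - j) - 1) = ∏ j ∈ Finset.range k, isoNum q (n - 2 * j) := by
  classical
  have hq0 : 0 < q := q_pos hF
  have h1 := SubspaceFrames.card_subspaces_mul (F := F) (V := Fin n → F) k
    (fun W => ∀ u ∈ W, ∀ v ∈ W, hermForm n F q u v = 0)
  have h2 : Nat.card {b : Fin k → (Fin n → F) // LinearIndependent F b ∧
      ∀ u ∈ Submodule.span F (Set.range b), ∀ v ∈ Submodule.span F (Set.range b), hermForm n F q u v = 0}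
      = Nat.card (TIFrame n F q k) :=
    Nat.card_congr (Equiv.subtypeEquivRight fun b => and_congr_right fun _ => HermLines.span_isotropic_iff hF b)
  rw [h2, card_frame hF hk, Finset.prod_mul_distrib, hF] at h1
  have h3 : ∏ i : Fin k, ((q ^ 2) ^ k - (q ^ 2) ^ (i : ℕ))
      = (∏ j ∈ Finset.range k, (q ^ 2) ^ j) * ∏ j ∈ Finset.range k, ((q ^ 2) ^ (k - j) - 1) := by
    rw [Fin.prod_univ_eq_prod_range (fun j => (q ^ 2) ^ k - (q ^ 2) ^ j) k, ← Finset.prod_mul_distrib]
    refine Finset.prod_congr rfl fun j hj => ?_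
    rw [Nat.mul_sub, mul_one, ← pow_add, Nat.add_sub_cancel' (Finset.mem_range.1 hj).le]
  rw [h3, mul_left_comm] at h1
  exact Nat.eq_of_mul_eq_mul_left (Finset.prod_pos fun j _ => pow_pos (pow_pos hq0 _) _) h1

lemma dvd_isoNum {r a : ℕ} (hq : 1 ≤ q) (hr : r.Prime) (ha : 2 ≤ a) (h : r ∣ isoNum q a) :
    ∃ e ≤ 1, (-(q : ZMod r)) ^ (a - e) = 1 := by
  have hsub : ∀ b, r ∣ q ^ b - 1 → (q : ZMod r) ^ b = 1 := by
    intro b hb
    rw [← ZMod.natCast_eq_zero_iff, Nat.cast_sub (Nat.one_le_pow _ _ hq)] at hb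
    push_cast at hb
    exact sub_eq_zero.1 hb
  have hadd : ∀ b, r ∣ q ^ b + 1 → (q : ZMod r) ^ b = -1 := by
    intro b hb
    rw [← ZMod.natCast_eq_zero_iff] at hb
    push_cast at hb
    exact eq_neg_of_add_eq_zero_left hb
  unfold isoNum at h
  split_ifs at h with he
  · rcases hr.dvd_mul.1 h with h | h
    · exact ⟨0, by omega, by rw [Nat.sub_zero, he.neg_pow]; exact hsub a h⟩
    · have ho : Odd (a - 1) := Nat.Even.sub_odd (by omega) he odd_one
      exact ⟨1, le_rfl, by rw [ho.neg_pow, hadd _ h, neg_neg]⟩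
  · have ho : Odd a := Nat.not_even_iff_odd.1 he
    rcases hr.dvd_mul.1 h with h | h
    · exact ⟨0, by omega, by rw [Nat.sub_zero, ho.neg_pow, hadd _ h, neg_neg]⟩
    · have he' : Even (a - 1) := Nat.Odd.sub_odd ho odd_one
      exact ⟨1, le_rfl, by rw [he'.neg_pow]; exact hsub _ h⟩

/-- A prime dividing the number of totally isotropic `k`-spaces satisfies `(-q)^{n-j} = 1` modulo `r` for some
`j < 2k`. -/
lemma exists_of_dvd_card_ti (hF : Fintype.card F = q ^ 2) {k r : ℕ} (hk : 2 * k ≤ n) (hr : r.Prime)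
    (h : r ∣ Nat.card {W : Submodule F (Fin n → F) // finrank F W = k ∧
      (∀ u ∈ W, ∀ v ∈ W, hermForm n F q u v = 0)}) :
    ∃ j < 2 * k, (-(q : ZMod r)) ^ (n - j) = 1 := by
  have h1 : r ∣ ∏ j ∈ Finset.range k, isoNum q (n - 2 * j) := by
    rw [← card_ti_eq hF hk]; exact h.mul_right _
  rw [hr.prime.dvd_finsetProd_iff] at h1
  obtain ⟨j, hj, hj'⟩ := h1
  rw [Finset.mem_range] at hj
  obtain ⟨e, he, h2⟩ := dvd_isoNum (q_pos hF) hr (show 2 ≤ n - 2 * j by omega) hj'
  exact ⟨2 * j + e, by omega, by rwa [← Nat.sub_sub]⟩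

end Cfsg.Agent.H950
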