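import Mathlib
set_option linter.all false
/-!
# Common isotropic vectors of several bilinear forms (Chevalley–Warning)
-/

set_option autoImplicit false

namespace Cfsg.Agent.H950

open Module MvPolynomial

/-- More than twice as many dimensions as bilinear forms: there is a common isotropic vector. -/
theorem exists_common_isotropic {K A ι : Type*} [Field K] [Finite K] [AddCommGroup A] [Module K A]
    [FiniteDimensional K A] [Fintype ι] (β : ι → A →ₗ[K] A →ₗ[K] K) (h : 2 * Fintype.card ι < finrank K A) :
    ∃ v : A, v ≠ 0 ∧ ∀ i, β i v v = 0 := by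
  classical
  have : Fintype K := Fintype.ofFinite K
  obtain ⟨p, hp⟩ := CharP.exists K
  have hpp : p.Prime := (CharP.char_is_prime_or_zero K p).resolve_right (CharP.char_ne_zero_of_finite K p)
  set N := finrank K A with hN
  let b := finBasis K A
  let f : ι → MvPolynomial (Fin N) K := fun i => ∑ k, ∑ l, C (β i (b k) (b l)) * (X k * X l)
  have hdeg : ∀ i, (f i).totalDegree ≤ 2 := by
    intro i
    refine (totalDegree_finsetSum_le fun k _ => ?_)
    refine (totalDegree_finsetSum_le fun l _ => ?_)
    refine (totalDegree_mul _ _).trans ?_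
    rw [totalDegree_C, zero_add]
    refine (totalDegree_mul _ _).trans ?_
    have h1 : ∀ j : Fin N, (X j : MvPolynomial (Fin N) K).totalDegree ≤ 1 := fun j => by
      rw [totalDegree_X]
    exact (Nat.add_le_add (h1 k) (h1 l))
  have heval : ∀ i (t : Fin N → K), eval t (f i) = β i (∑ k, t k • b k) (∑ l, t l • b l) := by
    intro i t
    rw [map_sum (β i), LinearMap.sum_apply]
    simp only [f, map_sum (eval t)]
    refine Finset.sum_congr rfl fun k _ => ?_
    rw [map_smul, LinearMap.smul_apply, map_sum, Finset.smul_sum]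
    refine Finset.sum_congr rfl fun l _ => ?_
    rw [map_mul, map_mul, eval_C, eval_X, eval_X, map_smul, smul_eq_mul, smul_eq_mul]
    ring
  have hlt : ∑ i, (f i).totalDegree < Fintype.card (Fin N) := by
    rw [Fintype.card_fin]
    refine lt_of_le_of_lt (Finset.sum_le_card_nsmul Finset.univ _ 2 fun i _ => hdeg i) ?_
    rw [Finset.card_univ, smul_eq_mul, mul_comm]
    exact h
  have hdvd := char_dvd_card_solutions_of_fintype_sum_lt p hlt
  have hpos : 0 < Fintype.card {x : Fin N → K // ∀ i, eval x (f i) = 0} :=
    Fintype.card_pos_iff.2 ⟨⟨0, fun i => by rw [heval]; simp⟩⟩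
  have h2 : 1 < Fintype.card {x : Fin N → K // ∀ i, eval x (f i) = 0} :=
    lt_of_lt_of_le hpp.one_lt (Nat.le_of_dvd hpos hdvd)
  obtain ⟨⟨t, ht⟩, hne⟩ := Fintype.exists_ne_of_one_lt_card h2 ⟨0, fun i => by rw [heval]; simp⟩
  refine ⟨∑ k, t k • b k, ?_, fun i => by rw [← heval]; exact ht i⟩
  intro h0
  apply hne
  apply Subtype.ext
  have h3 := Fintype.linearIndependent_iff.1 b.linearIndependent t h0
  exact funext h3

end Cfsg.Agent.H950
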