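import Cfsg.Agent.H951.Lin
set_option linter.all false
/-!
# Invariant subspaces of an operator of prime order; operators with irreducible `X^r - c`
-/

set_option autoImplicit false

namespace Cfsg.Agent.H950

open Module Polynomial Cfsg.Agent.H951

section Semi

variable {F V : Type*} [Field F] [Fintype F] [AddCommGroup V] [Module F V] [FiniteDimensional F V]
variable {x : Module.End F V} {r : ℕ} [Fact r.Prime]

/-- Within an invariant subspace `Z`: invariant subspaces of every dimension `m` with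
`m mod i ≤ dim Z mod i`, `i` the order of `|F|` modulo `r`. -/
lemma exists_inv_of_mod (hr : (r : F) ≠ 0) (hx : x ^ r = 1) {Z : Submodule F V} (hZ : Inv x Z) {m : ℕ}
    (hm : m ≤ finrank F Z)
    (hmod : m % orderOf (Fintype.card F : ZMod r) ≤ finrank F Z % orderOf (Fintype.card F : ZMod r)) :
    ∃ W ≤ Z, Inv x W ∧ finrank F W = m := by
  set i := orderOf (Fintype.card F : ZMod r) with hi
  have hi0 : 0 < i := ord_pos hr
  have hcm : Inv x (Z ⊓ cm x) := hZ.inf inv_cm
  have h1 := finrank_inf_add hr hx hZ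
  obtain ⟨b, hb⟩ := ord_dvd_finrank hx hcm (inf_fx_of_le_cm hr hx inf_le_right)
  rw [← hi] at hb
  set d := finrank F ↥(Z ⊓ fx x) with hd
  have hmd : m % i ≤ d := by
    refine hmod.trans ?_
    rw [← h1, hb, Nat.add_mul_mod_self_left]
    exact Nat.mod_le _ _
  set t := min (m / i) b with ht
  have htm : i * t ≤ m := (Nat.mul_le_mul_left i (min_le_left _ _)).trans (Nat.mul_div_le m i)
  have htb : i * t ≤ finrank F ↥(Z ⊓ cm x) := by
    rw [hb]; exact Nat.mul_le_mul_left i (min_le_right _ _)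
  have hrest : m - i * t ≤ d := by
    rcases le_total (m / i) b with h2 | h2
    · rw [ht, min_eq_left h2]
      have := Nat.div_add_mod m i
      omega
    · rw [ht, min_eq_right h2]
      omega
  obtain ⟨U, hU, hUi, hUd⟩ := exists_inv_finrank hr hx hcm inf_le_right htb
  obtain ⟨C, hC, hCd⟩ := exists_sub (Z ⊓ fx x) hrest
  refine ⟨C ⊔ U, sup_le (hC.trans inf_le_left) (hU.trans inf_le_left),
    (inv_of_le_fx (hC.trans inf_le_right)).sup hUi, ?_⟩
  have hUC : C ⊓ U = ⊥ := by
    rw [eq_bot_iff, ← (isCompl_fx_cm hr hx).inf_eq_bot]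
    exact inf_le_inf (hC.trans inf_le_right) (hU.trans inf_le_right)
  rw [finrank_sup_of_disj hUC, hCd, hUd, ← hi]
  omega

/-- `dim W ≡ dim C_W(x)` modulo the order of `|F|` modulo `r`. -/
lemma exists_finrank_eq (hr : (r : F) ≠ 0) (hx : x ^ r = 1) {W : Submodule F V} (hW : Inv x W) :
    ∃ b, finrank F W = finrank F ↥(W ⊓ fx x) + orderOf (Fintype.card F : ZMod r) * b := by
  obtain ⟨b, hb⟩ := ord_dvd_finrank hx (hW.inf inv_cm) (inf_fx_of_le_cm hr hx inf_le_right)
  exact ⟨b, by rw [← hb, finrank_inf_add hr hx hW]⟩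

lemma mod_le_of_inv (hr : (r : F) ≠ 0) (hx : x ^ r = 1) {W : Submodule F V} (hW : Inv x W) :
    finrank F W % orderOf (Fintype.card F : ZMod r) ≤ finrank F ↥(W ⊓ fx x) := by
  obtain ⟨b, hb⟩ := exists_finrank_eq hr hx hW
  rw [hb, Nat.add_mul_mod_self_left]
  exact Nat.mod_le _ _

/-- A flag `U ≤ W` of invariant subspaces of dimensions `m` and `n - m`. -/
lemma two_mul_mod_le (hr : (r : F) ≠ 0) (hx : x ^ r = 1) {U W : Submodule F V} (hU : Inv x U) (hW : Inv x W)
    (hUW : U ≤ W) {n m : ℕ} (hUm : finrank F U = m) (hWm : finrank F W = n - m)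
    (hmn : m ≤ n) (hfx : finrank F ↥(fx x) = n % orderOf (Fintype.card F : ZMod r)) :
    2 * (m % orderOf (Fintype.card F : ZMod r)) ≤ n % orderOf (Fintype.card F : ZMod r) := by
  set i := orderOf (Fintype.card F : ZMod r) with hi
  have hi0 : 0 < i := ord_pos hr
  obtain ⟨b, hb⟩ := exists_finrank_eq hr hx hW
  have h1 := mod_le_of_inv hr hx hU
  have h2 : finrank F ↥(U ⊓ fx x) ≤ finrank F ↥(W ⊓ fx x) := Submodule.finrank_mono (inf_le_inf_right _ hUW)
  have h3 : finrank F ↥(W ⊓ fx x) ≤ finrank F ↥(fx x) := Submodule.finrank_mono inf_le_right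
  rw [← hi] at hb h1
  rw [hUm] at h1
  rw [hWm] at hb
  rw [hfx] at h3
  set w := finrank F ↥(W ⊓ fx x) with hw
  -- m % i ≤ w, n - m = w + i * b, w ≤ n % i; so n % i - w ≡ m mod i
  have h4 : m % i ≤ n % i - w := by
    have h5 : m = (n % i - w) + i * (n / i) - i * b := by
      have := Nat.div_add_mod n i
      omega
    have h6 : i * b ≤ i * (n / i) := by
      have h7 : i * b ≤ n := by omega
      have h8 : b ≤ n / i := (Nat.le_div_iff_mul_le hi0).2 (by rw [mul_comm]; exact h7)
      exact Nat.mul_le_mul_left _ h8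
    have h9 : m = (n % i - w) + i * (n / i - b) := by
      rw [Nat.mul_sub]; omega
    rw [h9, Nat.add_mul_mod_self_left]
    exact Nat.mod_le _ _
  omega

end Semi

section Mod

lemma sub_mod_of {n m i : ℕ} (hi : 0 < i) (hmn : m ≤ n) (h : m % i ≤ n % i) : (n - m) % i = n % i - m % i := by
  have h1 := Nat.div_add_mod n i
  have h2 := Nat.div_add_mod m i
  have h3 : m / i ≤ n / i := Nat.div_le_div_right hmn
  have h4 : n - m = (n % i - m % i) + i * (n / i - m / i) := by
    have h5 : i * (m / i) ≤ i * (n / i) := Nat.mul_le_mul_left i h3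
    rw [Nat.mul_sub]; omega
  rw [h4, Nat.add_mul_mod_self_left]
  exact Nat.mod_eq_of_lt (lt_of_le_of_lt (Nat.sub_le _ _) (Nat.mod_lt _ hi))

lemma sub_two_mod_of {n m i : ℕ} (hi : 0 < i) (hmn : 2 * m ≤ n) (h : 2 * (m % i) ≤ n % i) :
    (n - 2 * m) % i = n % i - 2 * (m % i) := by
  have h0 : n % i < i := Nat.mod_lt _ hi
  have h1 : (2 * m) % i = 2 * (m % i) := by
    rw [Nat.mul_mod]
    rcases Nat.lt_or_ge 2 i with h2 | h2
    · rw [Nat.mod_eq_of_lt h2, Nat.mod_eq_of_lt (by omega)]
    · have h3 : m % i = 0 := by omega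
      rw [h3]; simp
  rw [sub_mod_of hi hmn (by rw [h1]; exact h), h1]

end Mod

section Irred

variable {F V : Type*} [Field F] [AddCommGroup V] [Module F V] [FiniteDimensional F V]
variable {x : Module.End F V}

omit [FiniteDimensional F V] in
lemma semisimple_of_irred {P : F[X]} (hP : Irreducible P) (h : aeval x P = 0) : x.IsSemisimple :=
  Module.End.isSemisimple_of_squarefree_aeval_eq_zero hP.squarefree h

/-- If an irreducible polynomial `P` kills `x`, every invariant subspace `Z` contains invariant subspaces of every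
dimension `deg P * j ≤ dim Z`. -/
lemma exists_inv_natDegree {P : F[X]} (hP : Irreducible P) (h : aeval x P = 0) {Z : Submodule F V} (hZ : Inv x Z)
    {j : ℕ} (hj : P.natDegree * j ≤ finrank F Z) : ∃ U ≤ Z, Inv x U ∧ finrank F U = P.natDegree * j := by
  have hss := semisimple_of_irred hP h
  have hPz : ∀ v, aeval x P v = 0 := fun v => by rw [h]; rfl
  induction j with
  | zero => exact ⟨⊥, bot_le, inv_bot, by simp⟩
  | succ j ih =>
    obtain ⟨U, hUW, hU, hUd⟩ := ih (le_trans (Nat.mul_le_mul_left _ (Nat.le_succ j)) hj)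
    obtain ⟨T, hT, hTW, hUT, hUT'⟩ := exists_rel_compl hss hU hZ hUW
    have hT0 : T ≠ ⊥ := by
      rintro rfl
      rw [sup_bot_eq] at hUT'
      rw [← hUT', hUd] at hj
      have := hP.natDegree_pos
      nlinarith
    obtain ⟨S, hST, hS⟩ := exists_irr hT hT0
    refine ⟨U ⊔ S, sup_le hUW (hST.trans hTW), hU.sup hS.2.1, ?_⟩
    rw [finrank_sup_of_disj, hUd, hS.finrank_eq_natDegree hP (fun v _ => hPz v), mul_add, mul_one]
    rw [eq_bot_iff, ← hUT]
    exact inf_le_inf_left _ hST

lemma natDegree_dvd_of_inv {P : F[X]} (hP : Irreducible P) (h : aeval x P = 0) {Z : Submodule F V} (hZ : Inv x Z) :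
    P.natDegree ∣ finrank F Z :=
  natDegree_dvd_finrank (semisimple_of_irred hP h) hP hZ fun v _ => by rw [h]; rfl

end Irred

section Det

variable {F : Type*} [Field F] {n : ℕ}

/-- If `x ^ r = c` then the characteristic polynomial of `x` divides a power of `X ^ r - c`. -/
lemma charpoly_dvd {r : ℕ} {c : F} (x : Matrix (Fin n) (Fin n) F) (hx : x ^ r = c • (1 : Matrix (Fin n) (Fin n) F)) :
    x.charpoly ∣ (X ^ r - C c) ^ n := by
  set A : Matrix (Fin n) (Fin n) F[X] := Matrix.scalar (Fin n) (X : F[X]) with hA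
  set B : Matrix (Fin n) (Fin n) F[X] := C.mapMatrix x with hB
  have hc : Commute A B := by
    rw [hA]
    exact Matrix.scalar_commute _ (fun r' => Commute.all _ _) _
  have h1 : A ^ r - B ^ r = Matrix.scalar (Fin n) (X ^ r - C c) := by
    rw [hA, hB, ← map_pow, ← map_pow, hx, map_sub]
    congr 1
    ext i j
    by_cases hij : i = j
    · subst hij; simp
    · simp [Matrix.one_apply_ne hij, Matrix.scalar_apply, Matrix.diagonal_apply_ne _ hij]
  have h2 : x.charpoly = (A - B).det := rfl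
  have h3 : (A - B) ∣ (A ^ r - B ^ r) := ⟨_, (hc.mul_geom_sum₂ r).symm⟩
  obtain ⟨Y, hY⟩ := h3
  rw [h2]
  refine ⟨Y.det, ?_⟩
  rw [← Matrix.det_mul, ← hY, h1]
  simp [Matrix.scalar_apply, Matrix.det_diagonal]

/-- The determinant of `x` when `x ^ r = c` with `X ^ r - c` irreducible. -/
lemma det_of_irred {r : ℕ} {c : F} (x : Matrix (Fin n) (Fin n) F) (hx : x ^ r = c • (1 : Matrix (Fin n) (Fin n) F))
    (hP : Irreducible (X ^ r - C c : F[X])) (hr : 0 < r) :
    r ∣ n ∧ x.det = ((-1) ^ (r + 1) * c) ^ (n / r) := by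
  obtain ⟨k, -, hk⟩ := (dvd_prime_pow hP.prime n).1 (charpoly_dvd x hx)
  have hmon : (X ^ r - C c : F[X]).Monic := monic_X_pow_sub_C c hr.ne'
  have heq : x.charpoly = (X ^ r - C c) ^ k :=
    eq_of_monic_of_associated x.charpoly_monic (hmon.pow k) hk
  have hdeg : n = k * r := by
    have h1 := x.charpoly_natDegree_eq_dim
    rw [heq, natDegree_pow, natDegree_X_pow_sub_C, Fintype.card_fin] at h1
    exact h1.symm
  refine ⟨⟨k, by rw [hdeg, mul_comm]⟩, ?_⟩
  have hnk : n / r = k := by rw [hdeg, Nat.mul_div_cancel _ hr]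
  rw [hnk, Matrix.det_eq_sign_charpoly_coeff, heq, Fintype.card_fin, coeff_zero_eq_eval_zero]
  have h2 : ((-1 : F)) ^ n = ((-1) ^ r) ^ k := by rw [← pow_mul, hdeg, mul_comm]
  rw [h2, eval_pow, ← mul_pow]
  congr 1
  simp [zero_pow hr.ne']
  ring

end Det

end Cfsg.Agent.H950
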