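import Cfsg.Agent.H950.MaxTI
import Cfsg.Agent.LieClassical.HermBasic
import Cfsg.Agent.H950.UCount
set_option linter.all false

-- part: H950/MaxTIU
section
/-!
# Anisotropic parts for hermitian forms over `F_{q²}` (Chevalley–Warning over the fixed field)
-/

set_option autoImplicit false
set_option linter.unusedSectionVars false

namespace Cfsg.Agent.H950

open Module Polynomial Cfsg.Agent.H951

variable {F V : Type*} [Field F] [Fintype F] [AddCommGroup V] [Module F V] [FiniteDimensional F V]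
variable {σ : F →+* F} {ε : F} {B : V → V → F} {x : Module.End F V} {r q : ℕ}

/-- The fixed field of `a ↦ a^q`. -/
def fixF (σ : F →+* F) : Subfield F := σ.eqLocusField (RingHom.id F)

lemma mem_fixF {a : F} : a ∈ fixF σ ↔ σ a = a := Iff.rfl

lemma card_fixF (hF : Fintype.card F = q ^ 2) (hσ : ∀ a, σ a = a ^ q) : Nat.card (fixF σ) = q := by
  rw [← LieClassical.HermBasic.card_fixed hF]
  exact Nat.card_congr (Equiv.subtypeEquivRight fun a => by rw [mem_fixF, hσ])

lemma finrank_fixF (hF : Fintype.card F = q ^ 2) (hσ : ∀ a, σ a = a ^ q) : finrank (fixF σ) F = 2 := by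
  have h1 := Module.natCard_eq_pow_finrank (K := fixF σ) (V := F)
  rw [card_fixF hF hσ, Nat.card_eq_fintype_card, hF] at h1
  exact (Nat.pow_right_injective (LieClassical.HermBasic.two_le hF) h1).symm

/-- For a hermitian form over `F_{q²}`: more than `2 |J|` dimensions give a common zero of `v ↦ B v (x^j v)`, `j ∈ J`;
more than `2 |J| + 1` dimensions give a common zero which is isotropic. -/
lemma exists_vector_conj (hF : Fintype.card F = q ^ 2) (hσ : ∀ a, σ a = a ^ q) (hB : Frm σ 1 B)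
    (W : Submodule F V) (J : Finset ℕ) :
    (2 * J.card < finrank F W → ∃ v ∈ W, v ≠ 0 ∧ ∀ j ∈ J, B v ((x ^ j) v) = 0) ∧
    (2 * J.card + 1 < finrank F W → ∃ v ∈ W, v ≠ 0 ∧ B v v = 0 ∧ ∀ j ∈ J, B v ((x ^ j) v) = 0) := by
  classical
  have h2 := finrank_fixF hF hσ
  have hfd : FiniteDimensional (fixF σ) F := FiniteDimensional.of_finrank_pos (by rw [h2]; norm_num)
  have hfdV : FiniteDimensional (fixF σ) W := FiniteDimensional.trans (fixF σ) F W
  have hW2 : finrank (fixF σ) W = 2 * finrank F W := by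
    rw [← h2, Module.finrank_mul_finrank (fixF σ) F W]
  let cb : Basis (Fin 2) (fixF σ) F := finBasisOfFinrankEq (fixF σ) F h2
  have hsm : ∀ (a : fixF σ) (v : V), a • v = (a : F) • v := fun a v => rfl
  have hsmF : ∀ (a : fixF σ) (b : F), a • b = (a : F) * b := fun a v => rfl
  have hl : ∀ (a : fixF σ) (u v : V), B (a • u) v = a • B u v := fun a u v => by
    rw [hsm, hB.smul_left, hsmF]
  have hr : ∀ (a : fixF σ) (u v : V), B u (a • v) = a • B u v := fun a u v => by
    rw [hsm, hB.smul_right, mem_fixF.1 a.2, hsmF]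
  let β : J × Fin 2 → W →ₗ[fixF σ] W →ₗ[fixF σ] (fixF σ) := fun j =>
    LinearMap.mk₂ (fixF σ) (fun u v => cb.coord j.2 (B u.1 ((x ^ (j.1 : ℕ)) v.1)))
    (fun u u' v => by
      change cb.coord j.2 (B (u.1 + u'.1) _) = _
      rw [hB.add_left, map_add])
    (fun c u v => by
      change cb.coord j.2 (B (c • u.1) _) = _
      rw [hl, map_smul])
    (fun u v v' => by
      change cb.coord j.2 (B u.1 ((x ^ (j.1 : ℕ)) (v.1 + v'.1))) = _
      rw [map_add, hB.add_right, map_add])
    (fun c u v => by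
      change cb.coord j.2 (B u.1 ((x ^ (j.1 : ℕ)) ((c : F) • v.1))) = _
      rw [map_smul, ← hsm, hr, map_smul])
  have hβ : ∀ v : W, (∀ j, β j v v = 0) → ∀ j ∈ J, B v.1 ((x ^ j) v.1) = 0 := by
    intro v hv j hj
    apply cb.ext_elem
    intro i
    have h3 : cb.coord i (B v.1 ((x ^ j) v.1)) = 0 := hv (⟨j, hj⟩, i)
    rw [map_zero]
    exact h3
  constructor
  · intro h
    obtain ⟨v, hv0, hv⟩ := exists_common_isotropic β (by
      rw [hW2, Fintype.card_prod, Fintype.card_coe, Fintype.card_fin]; omega)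
    exact ⟨v.1, v.2, fun h0 => hv0 (Subtype.ext h0), hβ v hv⟩
  · intro h
    obtain ⟨c, hc⟩ := LinearMap.exists_leftInverse_of_injective (Algebra.linearMap (fixF σ) F)
      (LinearMap.ker_eq_bot.2 (FaithfulSMul.algebraMap_injective (fixF σ) F))
    let γ : W →ₗ[fixF σ] W →ₗ[fixF σ] (fixF σ) :=
      LinearMap.mk₂ (fixF σ) (fun u v => c (B u.1 v.1))
      (fun u u' v => by
        change c (B (u.1 + u'.1) _) = _
        rw [hB.add_left, map_add])
      (fun a u v => by
        change c (B (a • u.1) _) = _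
        rw [hl, map_smul])
      (fun u v v' => by
        change c (B u.1 (v.1 + v'.1)) = _
        rw [hB.add_right, map_add])
      (fun a u v => by
        change c (B u.1 (a • v.1)) = _
        rw [hr, map_smul])
    obtain ⟨v, hv0, hv⟩ := exists_common_isotropic (fun o : Option (J × Fin 2) => o.elim γ β) (by
      rw [hW2, Fintype.card_option, Fintype.card_prod, Fintype.card_coe, Fintype.card_fin]; omega)
    refine ⟨v.1, v.2, fun h0 => hv0 (Subtype.ext h0), ?_, hβ v fun j => hv (some j)⟩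
    have h3 : c (B v.1 v.1) = 0 := hv none
    have h4 : σ (B v.1 v.1) = B v.1 v.1 := by
      have := hB.herm v.1 v.1
      rw [one_mul] at this
      exact this.symm
    have h5 : Algebra.linearMap (fixF σ) F ⟨B v.1 v.1, h4⟩ = B v.1 v.1 := rfl
    rw [← h5] at h3
    have h6 := LinearMap.congr_fun hc ⟨B v.1 v.1, h4⟩
    rw [LinearMap.comp_apply, h3] at h6
    exact congrArg Subtype.val h6.symm

/-- The anisotropic part of `[V, x]` has dimension at most `r - 1`. -/
lemma finrank_le_conj (hF : Fintype.card F = q ^ 2) (hσ : ∀ a, σ a = a ^ q) (hodd : Odd r)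
    (hB : Frm σ 1 B) (hx : Isom B x) (hxr : x ^ r = 1) {W : Submodule F V} (hW : Inv x W) (hWc : W ≤ cm x)
    (han : ∀ Z ≤ W, Inv x Z → TI B Z → Z = ⊥) : finrank F W ≤ r - 1 := by
  by_contra hlt
  obtain ⟨v, hv, hv0, hJ⟩ := (exists_vector_conj (x := x) hF hσ hB W (Finset.Icc 1 ((r - 1) / 2))).1 (by
    rw [Nat.card_Icc]; omega)
  have h1 : ∀ d, 1 ≤ d → d ≤ (r - 1) / 2 → B v ((x ^ d) v) = 0 := fun d h1 h2 => hJ d (Finset.mem_Icc.2 ⟨h1, h2⟩)
  have hxr' : x ^ r = (1 : F) • 1 := by rw [hxr, one_smul]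
  obtain ⟨Z, hZ, hZi, hZti, hZ0⟩ := exists_ti_of_vector hB hx hxr' hodd.pos hW hv hv0
    (all_of_half hB hx hxr' hodd (self_of_half hB hx hxr hodd (hWc hv) h1) h1)
  exact hZ0 (han Z hZ hZi hZti)

/-- If `x ^ r` is scalar, `r` odd, the anisotropic part has dimension at most `r`. -/
lemma finrank_le_conj' (hF : Fintype.card F = q ^ 2) (hσ : ∀ a, σ a = a ^ q) (hodd : Odd r)
    (hB : Frm σ 1 B) (hx : Isom B x) {z : F} (hxr : x ^ r = z • 1) {W : Submodule F V} (hW : Inv x W)
    (han : ∀ Z ≤ W, Inv x Z → TI B Z → Z = ⊥) : finrank F W ≤ r := by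
  by_contra hlt
  obtain ⟨k, hk⟩ := hodd
  obtain ⟨v, hv, hv0, hvv, hJ⟩ := (exists_vector_conj (x := x) hF hσ hB W (Finset.Icc 1 ((r - 1) / 2))).2 (by
    rw [Nat.card_Icc]; omega)
  have h1 : ∀ d, 1 ≤ d → d ≤ (r - 1) / 2 → B v ((x ^ d) v) = 0 := fun d h1 h2 => hJ d (Finset.mem_Icc.2 ⟨h1, h2⟩)
  obtain ⟨Z, hZ, hZi, hZti, hZ0⟩ := exists_ti_of_vector hB hx hxr (by omega) hW hv hv0
    (all_of_half hB hx hxr ⟨k, hk⟩ hvv h1)
  exact hZ0 (han Z hZ hZi hZti)

end Cfsg.Agent.H950
end

-- part: H950/UHerm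
section
/-!
# The standard Hermitian form as an `H951.Frm`; dimensions of nondegenerate invariant subspaces
-/

set_option autoImplicit false
set_option linter.unusedSectionVars false

namespace Cfsg.Agent.H950

open Cfsg Module Polynomial Cfsg.Agent.H951 Cfsg.Agent.LieClassical.HermBasic Cfsg.Agent.ClassicalGeometry

variable {F : Type*} [Field F] [Fintype F] {q n : ℕ}

/-- Conjugation as a ring homomorphism. -/
def cj (hF : Fintype.card F = q ^ 2) : F →+* F := (conj hF : F →+* F)

lemma cj_apply (hF : Fintype.card F = q ^ 2) (a : F) : cj hF a = a ^ q := rfl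

lemma frm_herm (hF : Fintype.card F = q ^ 2) (n : ℕ) : Frm (cj hF) 1 (hermForm n F q) where
  add_left := herm_add_left
  smul_left := herm_smul_left
  herm u v := by rw [one_mul, cj_apply]; exact herm_swap hF u v
  sigma_sq a := by rw [cj_apply, cj_apply]; exact pow_q_pow_q hF a
  eps_ne := one_ne_zero

lemma nd_top (hF : Fintype.card F = q ^ 2) (n : ℕ) : Nd (hermForm n F q) (⊤ : Submodule F (Fin n → F)) := by
  intro u _ hu
  obtain ⟨v, hv⟩ := exists_herm_ne_zero hF hu
  exact ⟨v, Submodule.mem_top, hv⟩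

lemma isom_of_SU {x : Matrix.SpecialLinearGroup (Fin n) F} (hx : x ∈ SU n F q) :
    Isom (hermForm n F q) (Matrix.toLin' (x : Matrix (Fin n) (Fin n) F)) := by
  intro u v
  rw [Matrix.toLin'_apply, Matrix.toLin'_apply]
  exact (mem_SU_iff x).1 hx u v

lemma mem_SU_of_isom {x : Matrix.SpecialLinearGroup (Fin n) F}
    (hx : Isom (hermForm n F q) (Matrix.toLin' (x : Matrix (Fin n) (Fin n) F))) : x ∈ SU n F q := by
  rw [mem_SU_iff]
  intro u v
  have := hx u v
  rwa [Matrix.toLin'_apply, Matrix.toLin'_apply] at this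

/-- The number of norm one vectors of a nondegenerate subspace. -/
lemma card_norm_one_sub (hF : Fintype.card F = q ^ 2) {W : Submodule F (Fin n → F)}
    (hW : Nd (hermForm n F q) W) {d : ℕ} (hd : finrank F W = d) :
    Nat.card {v : Fin n → F // v ∈ W ∧ hermForm n F q v v = 1} =
      (if Even d then q ^ (d - 1) * (q ^ d - 1) else q ^ (d - 1) * (q ^ d + 1)) := by
  classical
  rw [← LieClassical.HermCount.card_norm_one hF d]
  obtain ⟨g, hgW, hg⟩ := HermFrame.exists_orthonormal hF d W hd (fun u hu h => by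
    by_contra hne
    obtain ⟨v, hv, huv⟩ := hW u hu hne
    exact huv (h v hv))
  set Θ : (Fin d → F) →ₗ[F] (Fin n → F) := Fintype.linearCombination F g with hΘ
  have hΘa : ∀ β, Θ β = ∑ j, β j • g j := fun β => Fintype.linearCombination_apply _ _ _
  have hΘg : ∀ β j, hermForm n F q (Θ β) (g j) = β j := by
    intro β j
    rw [hΘa, herm_sum_left]
    simp only [herm_smul_left, hg, mul_ite, mul_one, mul_zero, Finset.sum_ite_eq', Finset.mem_univ, if_true]
  have hinj : Function.Injective Θ := by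
    intro β β' h
    funext j
    rw [← hΘg β j, ← hΘg β' j, h]
  have hrange : LinearMap.range Θ = W := by
    apply Submodule.eq_of_le_of_finrank_eq
    · rintro _ ⟨β, rfl⟩
      rw [hΘa]
      exact Submodule.sum_mem _ fun j _ => W.smul_mem _ (hgW j)
    · rw [LinearMap.finrank_range_of_inj hinj, finrank_fin_fun, hd]
  have hself : ∀ β, hermForm n F q (Θ β) (Θ β) = hermForm d F q β β := by
    intro β
    conv_lhs => rw [hΘa β]
    rw [herm_sum_right hF]
    simp only [herm_smul_right]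
    rw [← hΘa β]
    simp only [hΘg]
    rw [herm_def]
    exact Finset.sum_congr rfl fun j _ => mul_comm _ _
  refine Nat.card_congr (Equiv.symm (Equiv.ofBijective (fun β : {β : Fin d → F // hermForm d F q β β = 1} =>
    (⟨Θ β.1, by rw [← hrange]; exact ⟨β.1, rfl⟩, by rw [hself]; exact β.2⟩ :
      {v : Fin n → F // v ∈ W ∧ hermForm n F q v v = 1})) ⟨?_, ?_⟩))
  · intro β β' h
    exact Subtype.ext (hinj (congrArg Subtype.val h))
  · rintro ⟨v, hv1, hv2⟩
    rw [← hrange] at hv1
    obtain ⟨β, rfl⟩ := hv1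
    exact ⟨⟨β, by rw [← hself]; exact hv2⟩, rfl⟩

/-- The order of `-q` modulo `r` divides the dimension of a nondegenerate invariant subspace of `[V, x]`. -/
lemma ord_neg_dvd (hF : Fintype.card F = q ^ 2) {r : ℕ} [Fact r.Prime] (hrq : ¬ r ∣ q)
    {x : Module.End F (Fin n → F)} (hx : Isom (hermForm n F q) x) (hxr : x ^ r = 1)
    {W : Submodule F (Fin n → F)} (hW : Inv x W) (hWn : Nd (hermForm n F q) W) (hWc : W ⊓ fx x = ⊥) :
    orderOf (-(q : ZMod r)) ∣ finrank F W := by
  classical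
  have hrp : r.Prime := Fact.out
  have hq0 : 1 ≤ q := q_pos hF
  set d := finrank F W with hd
  have h1 := card_modEq hxr {v : Fin n → F | v ∈ W ∧ hermForm n F q v v = 1} (fun v hv => ⟨hW v hv.1, by
    rw [hx v v]; exact hv.2⟩)
  have h2 : Nat.card {v : Fin n → F // v ∈ {v : Fin n → F | v ∈ W ∧ hermForm n F q v v = 1} ∧ x v = v} = 0 := by
    rw [Nat.card_eq_zero]
    left
    refine ⟨fun v => ?_⟩
    obtain ⟨v, ⟨hvW, hv1⟩, hv⟩ := v
    have h3 : v ∈ W ⊓ fx x := ⟨hvW, mem_fx.2 hv⟩
    rw [hWc, Submodule.mem_bot] at h3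
    rw [h3, herm_zero_left] at hv1
    exact zero_ne_one hv1
  rw [h2] at h1
  have h3 : r ∣ Nat.card {v : Fin n → F // v ∈ W ∧ hermForm n F q v v = 1} := (Nat.modEq_zero_iff_dvd).1 h1
  rw [card_norm_one_sub hF hWn rfl, ← hd] at h3
  rw [orderOf_dvd_iff_pow_eq_one]
  have hnp : ¬ r ∣ q ^ (d - 1) := fun h => hrq (hrp.dvd_of_dvd_pow h)
  split_ifs at h3 with he
  · have h4 := (hrp.dvd_mul.1 h3).resolve_left hnp
    rw [← ZMod.natCast_eq_zero_iff, Nat.cast_sub (Nat.one_le_pow _ _ hq0)] at h4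
    push_cast at h4
    rw [he.neg_pow]
    exact sub_eq_zero.1 h4
  · have h4 := (hrp.dvd_mul.1 h3).resolve_left hnp
    rw [← ZMod.natCast_eq_zero_iff] at h4
    push_cast at h4
    rw [(Nat.not_even_iff_odd.1 he).neg_pow, eq_neg_of_add_eq_zero_left h4, neg_neg]

/-- Totally isotropic subspaces of a nondegenerate space without any further structure. -/
lemma exists_ti_plain (hF : Fintype.card F = q ^ 2) {W : Submodule F (Fin n → F)}
    (hW : Nd (hermForm n F q) W) {k : ℕ} (hk : 2 * k ≤ finrank F W) :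
    ∃ T ≤ W, TI (hermForm n F q) T ∧ finrank F T = k := by
  have hone : ∀ Z : Submodule F (Fin n → F), Inv (1 : Module.End F (Fin n → F)) Z := fun Z w hw => hw
  have hiso : Isom (hermForm n F q) (1 : Module.End F (Fin n → F)) := fun u v => rfl
  have hss : (1 : Module.End F (Fin n → F)).IsSemisimple :=
    Module.End.isSemisimple_id
  obtain ⟨T, W₁, hTW, hW₁, -, hTti, -, -, hd, han⟩ :=
    exists_witt (frm_herm hF n) (x := 1) (fun Z _ => hone _) hss (hone W) hW
  have h1 := finrank_le_conj' hF (cj_apply hF) odd_one (frm_herm hF n) hiso (z := 1) (r := 1)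
    (by rw [pow_one, one_smul]) (hone W₁) han
  obtain ⟨T', hT', hT'd⟩ := exists_sub T (a := k) (by omega)
  exact ⟨T', hT'.trans hTW, fun u hu v hv => hTti u (hT' hu) v (hT' hv), hT'd⟩

end Cfsg.Agent.H950
end
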