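import Mathlib
import Cfsg.Agent.H940.MaxCls
import Cfsg.Agent.H918.UBase
import Cfsg.Agent.H907.MxSymp2_m3
import Cfsg.Agent.H915.PrimIrr
import Cfsg.Agent.Lib.Zsigmondy
import Cfsg.Agent.ClassicalGeometry.PSL2Basic
import Cfsg.Agent.H930.ExtUF
import Cfsg.Agent.H957.UFrame
import Cfsg.Agent.FastGrp
import Cfsg.Agent.Prune
set_option linter.all false
prune_inst 0x7ff2a9f88bbdbddfdfff7e7faed8dffc3b905fffefdffd4bbfe021ef0fdf038209c57bad09e000fe0ec3e21410b87853fbffeeffea6bdc7ffffd5ff45ffbee0ff5f7bd08519688340fbc0fff03f0778e7f3fffffffffffffffffffffffffffaeffbfffffffff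
open scoped Cfsg.Agent.FastGrp

-- part: H950/MCBase
section
/-!
# Apart subgroups of `SU_n(q)` inside `GL_n(q²)` (helper950, for S5906, S5907)
-/

set_option autoImplicit false
set_option linter.unusedSectionVars false

namespace Cfsg.Agent.H950.MC

open Cfsg Cfsg.Geo Cfsg.Agent.H940.MaxCls Cfsg.Agent.H918

section general

variable {Γ : Type*} [Group Γ] {S A B : Subgroup Γ}

/-- no proper subgroup of `S` contains `A` and a conjugate of `B` -/
def ApartIn (S A B : Subgroup Γ) : Prop :=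
  ∀ g ∈ S, ∀ K : Subgroup Γ, K ≤ S → A ≤ K → (∀ x ∈ B, g * x * g⁻¹ ∈ K) → K = S

theorem apartIn_of_max (hA : IsMaximalIn S A) (hB : ∀ g ∈ S, ∃ x ∈ B, g * x * g⁻¹ ∉ A) : ApartIn S A B := by
  intro g hg K hK h1 h2
  rcases hA.2 K h1 hK with h | h
  · obtain ⟨x, hx, hx'⟩ := hB g hg
    exact absurd (by rw [← h]; exact h2 x hx) hx'
  · exact h

theorem ApartIn.symm (h : ApartIn S A B) : ApartIn S B A := by
  intro g hg K hK hB hA
  have h1 := h g⁻¹ (S.inv_mem hg) (Subgroup.map (MulAut.conj g⁻¹).toMonoidHom K) (by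
      intro x hx
      rw [mem_map_conj] at hx
      have h3 := S.mul_mem (S.mul_mem (S.inv_mem hg) (hK hx)) hg
      have h4 : g⁻¹ * (g⁻¹⁻¹ * x * g⁻¹) * g = x := by group
      rwa [h4] at h3)
    (fun x hx => mem_map_conj.2 (by simpa only [_root_.inv_inv] using hA x hx))
    (fun x hx => mem_map_conj.2 (by
      have : g⁻¹⁻¹ * (g⁻¹ * x * g⁻¹⁻¹) * g⁻¹ = x := by group
      rw [this]
      exact hB hx))
  refine le_antisymm hK fun x hx => ?_
  have h2 : g⁻¹ * x * g ∈ Subgroup.map (MulAut.conj g⁻¹).toMonoidHom K := by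
    rw [h1]
    exact S.mul_mem (S.mul_mem (S.inv_mem hg) hx) hg
  rw [mem_map_conj] at h2
  have h3 : g⁻¹⁻¹ * (g⁻¹ * x * g) * g⁻¹ = x := by group
  rwa [h3] at h2

variable {G : Type*} [Group G] {f : G →* Γ} (hf : Function.Injective f) (hr : f.range = S)

include hf hr

theorem apart_comap (hA : A ≤ S) (hB : B ≤ S) (h : ApartIn S A B) : Apart (A.comap f) (B.comap f) := by
  intro g K h1 h2
  have h3 := h (f g) (hr ▸ ⟨g, rfl⟩) (K.map f) (by rw [← hr]; exact Subgroup.map_le_range f K) (by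
      intro a ha
      obtain ⟨a, rfl⟩ : a ∈ f.range := hr ▸ hA ha
      exact ⟨a, h1 ha, rfl⟩) (by
      intro b hb
      obtain ⟨b, rfl⟩ : b ∈ f.range := hr ▸ hB hb
      exact ⟨g * b * g⁻¹, h2 b hb, by simp only [_root_.map_mul, _root_.map_inv]⟩)
  refine top_le_iff.1 fun x _ => ?_
  have h4 : f x ∈ K.map f := by rw [h3, ← hr]; exact ⟨x, rfl⟩
  obtain ⟨y, hy, hyx⟩ := h4
  rwa [← hf hyx]

theorem comap_ne_top_of {A : Subgroup Γ} (hA : A ≠ S) (hAS : A ≤ S) : A.comap f ≠ ⊤ := by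
  intro h
  apply hA
  refine le_antisymm hAS ?_
  rw [← hr]
  rintro _ ⟨x, rfl⟩
  have : x ∈ A.comap f := by rw [h]; exact Subgroup.mem_top x
  exact this

theorem sep_comap {L : List (Subgroup Γ)} (h1 : ∀ A ∈ L, A ≤ S ∧ A ≠ S) (h2 : L.Pairwise (ApartIn S)) :
    Sep L.length G := by
  have h3 := sep_of_list (L.map (fun A => A.comap f)) (by
      intro A hA
      obtain ⟨B, hB, rfl⟩ := List.mem_map.1 hA
      exact comap_ne_top_of hf hr (h1 B hB).2 (h1 B hB).1) (by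
      rw [List.pairwise_map]
      exact h2.imp_of_mem fun {A B} hA hB h => apart_comap hf hr (h1 A hA).1 (h1 B hB).1 h)
  rwa [List.length_map] at h3

end general

section su

variable {F : Type*} [Field F] [Fintype F] {n q : ℕ} (hF : Fintype.card F = q ^ 2)

theorem sep_psu (hF : Fintype.card F = q ^ 2) (hn : 3 ≤ n) (h32 : ¬ (n = 3 ∧ q = 2))
    {L : List (Subgroup (Matrix.GeneralLinearGroup (Fin n) F))}
    (h1 : ∀ A ∈ L, A ≤ SUg n F q ∧ A ≠ SUg n F q) (h2 : L.Pairwise (ApartIn (SUg n F q))) :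
    Sep L.length (PSU n F q) := by
  have h3 : Sep L.length (SU n F q) := sep_comap suHom_injective range_suHom h1 h2
  exact Sep.map_surj (f := QuotientGroup.mk' (Subgroup.center (SU n F q))) (QuotientGroup.mk'_surjective _)
    (by rw [QuotientGroup.ker_mk']) (Cfsg.Agent.LieClassical.HermPerfect.commutator_SU_eq_top hF hn h32) h3

/-- five subgroups -/
theorem sep_psu_five (hF : Fintype.card F = q ^ 2) (hn : 3 ≤ n) (h32 : ¬ (n = 3 ∧ q = 2))
    {A B C D E : Subgroup (Matrix.GeneralLinearGroup (Fin n) F)}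
    (hA : A ≤ SUg n F q) (hB : B ≤ SUg n F q) (hC : C ≤ SUg n F q) (hD : D ≤ SUg n F q) (hE : E ≤ SUg n F q)
    (hA' : A ≠ SUg n F q) (hB' : B ≠ SUg n F q) (hC' : C ≠ SUg n F q) (hD' : D ≠ SUg n F q) (hE' : E ≠ SUg n F q)
    (hAB : ApartIn (SUg n F q) A B) (hAC : ApartIn (SUg n F q) A C) (hAD : ApartIn (SUg n F q) A D)
    (hAE : ApartIn (SUg n F q) A E) (hBC : ApartIn (SUg n F q) B C) (hBD : ApartIn (SUg n F q) B D)
    (hBE : ApartIn (SUg n F q) B E) (hCD : ApartIn (SUg n F q) C D) (hCE : ApartIn (SUg n F q) C E)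
    (hDE : ApartIn (SUg n F q) D E) : Sep 5 (PSU n F q) := by
  have := sep_psu (L := [A, B, C, D, E]) hF hn h32 (by
      intro X hX
      simp only [List.mem_cons, List.not_mem_nil, or_false] at hX
      rcases hX with rfl | rfl | rfl | rfl | rfl
      exacts [⟨hA, hA'⟩, ⟨hB, hB'⟩, ⟨hC, hC'⟩, ⟨hD, hD'⟩, ⟨hE, hE'⟩])
    (by simp only [hAB, hAC, hAD, hAE, hBC, hBD, hBE, hCD, hCE, hDE, _root_.List.pairwise_cons, _root_.List.mem_cons, _root_.List.not_mem_nil, _root_.or_false, _root_.forall_eq_or_imp, _root_.forall_eq, _root_.and_self, _root_.IsEmpty.forall_iff, _root_.implies_true, _root_.List.Pairwise.nil])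
  simpa using this

end su

end Cfsg.Agent.H950.MC
end

-- part: H950/MCTools
section
/-!
# Tools for `PSU₃(q)` (helper950, for S5906, S5907)
-/

set_option autoImplicit false
set_option linter.unusedSectionVars false

namespace Cfsg.Agent.H950.MC

open Cfsg Cfsg.Geo Matrix Cfsg.Agent.H918 Cfsg.Agent.LieClassical.HermBasic Cfsg.Agent.H907 Cfsg.Agent.H907.SU3
  Cfsg.Agent.H907.Mx Cfsg.Agent.H914
open scoped MatrixGroups

variable {F : Type*} [Field F]

/-! ### Conjugation and invariant subspaces -/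

/-- the preimage of a subspace -/
def pre (g : GL (Fin 3) F) (W : Submodule F (Fin 3 → F)) : Submodule F (Fin 3 → F) :=
  W.comap (Matrix.toLin' (g : Matrix (Fin 3) (Fin 3) F))

theorem mem_pre {g : GL (Fin 3) F} {W : Submodule F (Fin 3 → F)} {v : Fin 3 → F} :
    v ∈ pre g W ↔ (g : Matrix (Fin 3) (Fin 3) F) *ᵥ v ∈ W := by
  rw [pre, Submodule.mem_comap, Matrix.toLin'_apply]

theorem pre_bot {g : GL (Fin 3) F} {W : Submodule F (Fin 3 → F)} (h : pre g W = ⊥) : W = ⊥ := by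
  rw [eq_bot_iff]
  intro w hw
  have h1 : ((g⁻¹ : GL (Fin 3) F) : Matrix (Fin 3) (Fin 3) F) *ᵥ w ∈ pre g W := by
    rw [mem_pre, Matrix.mulVec_mulVec, ← Units.val_mul, mul_inv_cancel, Units.val_one, Matrix.one_mulVec]
    exact hw
  rw [h, Submodule.mem_bot] at h1
  rw [Submodule.mem_bot, ← Matrix.one_mulVec w, ← Units.val_one, ← mul_inv_cancel g, Units.val_mul,
    ← Matrix.mulVec_mulVec, h1, Matrix.mulVec_zero]

theorem pre_top {g : GL (Fin 3) F} {W : Submodule F (Fin 3 → F)} (h : pre g W = ⊤) : W = ⊤ := by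
  rw [eq_top_iff]
  intro w _
  have h1 : ((g⁻¹ : GL (Fin 3) F) : Matrix (Fin 3) (Fin 3) F) *ᵥ w ∈ pre g W := by
    rw [h]; exact Submodule.mem_top
  rw [mem_pre, Matrix.mulVec_mulVec, ← Units.val_mul, mul_inv_cancel, Units.val_one, Matrix.one_mulVec] at h1
  exact h1

theorem stab_pre {g x : GL (Fin 3) F} {W : Submodule F (Fin 3 → F)} (h : g * x * g⁻¹ ∈ subspaceStabilizer W) :
    ∀ w ∈ pre g W, (x : Matrix (Fin 3) (Fin 3) F) *ᵥ w ∈ pre g W := by
  intro w hw
  rw [mem_pre] at hw ⊢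
  have h1 := mulVec_mem_of_stab h _ hw
  rw [Matrix.mulVec_mulVec, ← Units.val_mul, inv_mul_cancel_right] at h1
  rwa [Matrix.mulVec_mulVec, ← Units.val_mul]

/-- a set of elements acts irreducibly -/
def Irr (B : Subgroup (GL (Fin 3) F)) : Prop :=
  ∀ W : Submodule F (Fin 3 → F), (∀ x ∈ B, ∀ w ∈ W, (x : Matrix (Fin 3) (Fin 3) F) *ᵥ w ∈ W) → W = ⊥ ∨ W = ⊤

/-- an irreducible group is not conjugate into a subspace stabiliser -/
theorem exists_not_mem_of_irr {S B : Subgroup (GL (Fin 3) F)} (hB : Irr B) {W : Submodule F (Fin 3 → F)} (h0 : W ≠ ⊥)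
    (h1 : W ≠ ⊤) (g : GL (Fin 3) F) : ∃ x ∈ B, g * x * g⁻¹ ∉ subspaceStabilizer W ⊓ S := by
  by_contra hcon
  push Not at hcon
  rcases hB (pre g W) (fun x hx => stab_pre (hcon x hx).1) with h | h
  · exact h0 (pre_bot h)
  · exact h1 (pre_top h)

/-! ### Subfields -/

theorem exists_subfield_card [Fintype F] {p n b : ℕ} (hp : p.Prime) (hn : n ≠ 0) (h : Fintype.card F = (p ^ n) ^ b) :
    ∃ k : Subfield F, Nat.card k = p ^ n := by
  classical
  have := Fact.mk hp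
  let K := GaloisField p n
  let _ : Fintype K := Fintype.ofFinite K
  have hK : Fintype.card K = p ^ n := by
    rw [← Nat.card_eq_fintype_card]
    exact GaloisField.card p n hn
  have h1 : Fintype.card K ^ b = Fintype.card F := by rw [hK, h]
  obtain ⟨f⟩ := Cfsg.Agent.ClassicalGeometry.PSL2Basic.exists_ringHom_of_card_pow h1
  refine ⟨f.fieldRange, ?_⟩
  rw [← hK, ← Nat.card_eq_fintype_card]
  exact (Nat.card_congr (Equiv.ofInjective f f.injective)).symm

/-! ### Points -/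

section points

variable [Fintype F] {q : ℕ} (hF : Fintype.card F = q ^ 2)
include hF

/-- a singular point -/
theorem exists_sing : ∃ W : Submodule F (Fin 3 → F), W ≠ ⊥ ∧ W ≠ ⊤ ∧ IsTotallySingularFor (hermForm 3 F q) W := by
  obtain ⟨x, hx⟩ := exists_norm_eq hF (c := (-1 : F)) (by rw [neg_pow_q hF, one_pow])
  have h0 : hermForm 3 F q ![1, x, 0] ![1, x, 0] = 0 := by
    rw [herm_def, Fin.sum_univ_three]
    simp [hx]
  have hne : (![1, x, 0] : Fin 3 → F) ≠ 0 := fun h => one_ne_zero (congrFun h 0)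
  refine ⟨F ∙ ![1, x, 0], ?_, ?_, ?_⟩
  · rw [Ne, Submodule.span_singleton_eq_bot]
    exact hne
  · intro h
    have h1 := finrank_span_singleton (K := F) hne
    rw [h, finrank_top] at h1
    simp at h1
  · intro u hu v hv
    obtain ⟨a, rfl⟩ := Submodule.mem_span_singleton.1 hu
    obtain ⟨b, rfl⟩ := Submodule.mem_span_singleton.1 hv
    rw [herm_smul_left, herm_smul_right, h0, mul_zero, mul_zero]

/-- the group of diagonal matrices is not conjugate into the stabiliser of a singular point -/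
theorem exists_not_mem_of_diag {S B : Subgroup (GL (Fin 3) F)} {x : GL (Fin 3) F} (hx : x ∈ B) {δ : Fin 3 → F}
    (hδ : Function.Injective δ) (hxδ : (x : Matrix (Fin 3) (Fin 3) F) = Matrix.diagonal δ)
    {W : Submodule F (Fin 3 → F)} (h0 : W ≠ ⊥) (hW : IsTotallySingularFor (hermForm 3 F q) W) {g : GL (Fin 3) F}
    (hg : g ∈ Cfsg.GU 3 F q) : ∃ x ∈ B, g * x * g⁻¹ ∉ subspaceStabilizer W ⊓ S := by
  refine ⟨x, hx, fun h => ?_⟩
  have h1 := stab_pre h.1
  have h2 : pre g W ≠ ⊥ := fun h => h0 (pre_bot h)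
  obtain ⟨v, hv, hv0⟩ := Submodule.exists_mem_ne_zero_of_ne_bot h2
  obtain ⟨i, hi⟩ := Function.ne_iff.1 hv0
  have h3 := mem_of_diag hδ hxδ h1 hv hi
  rw [mem_pre] at h3
  have h4 := hW _ h3 _ h3
  rw [mem_GU.1 hg, herm_single_right hF] at h4
  simp at h4

end points

/-! ### Frames -/

section frames

variable {D : Fin 3 → Submodule F (Fin 3 → F)}

/-- an element fixing all members of a frame acts by scalars on them -/
theorem eq_one_of_fix (hD : IsMDecomposition 1 D) {x : GL (Fin 3) F}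
    (hx : ∀ i, (D i).map (Matrix.toLin' (x : Matrix (Fin 3) (Fin 3) F)) = D i) {p k : ℕ} [CharP F p] (hp : p.Prime)
    (hxp : x ^ p ^ k = 1) : x = 1 := by
  have := Fact.mk hp
  have h1 : ∀ i, ∀ v ∈ D i, (x : Matrix (Fin 3) (Fin 3) F) *ᵥ v = v := by
    intro i v hv
    have hfr := hD.finrank_eq i
    obtain ⟨⟨w, hw⟩, hw0, hws⟩ := finrank_eq_one_iff'.1 hfr
    have hw0' : w ≠ 0 := fun h => hw0 (Subtype.ext h)
    have h2 : (x : Matrix (Fin 3) (Fin 3) F) *ᵥ w ∈ D i := by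
      rw [← hx i]
      exact ⟨w, hw, by rw [Matrix.toLin'_apply]⟩
    obtain ⟨c, hc⟩ := hws ⟨_, h2⟩
    have hc' : c • w = (x : Matrix (Fin 3) (Fin 3) F) *ᵥ w := congrArg Subtype.val hc
    have hpow : ∀ n : ℕ, ((x ^ n : GL (Fin 3) F) : Matrix (Fin 3) (Fin 3) F) *ᵥ w = c ^ n • w := by
      intro n
      induction n with
      | zero => simp
      | succ n ih =>
        rw [pow_succ, Units.val_mul, ← Matrix.mulVec_mulVec, ← hc', Matrix.mulVec_smul, ih, smul_smul, pow_succ, mul_comm]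
    have h3 := hpow (p ^ k)
    rw [hxp, Units.val_one, Matrix.one_mulVec] at h3
    have h4 : (c ^ p ^ k - 1) • w = 0 := by rw [sub_smul, ← h3, one_smul, sub_self]
    have h5 : c ^ p ^ k = 1 := sub_eq_zero.1 ((smul_eq_zero.1 h4).resolve_right hw0')
    have h6 : (c - 1) ^ p ^ k = 0 := by
      rw [sub_pow_char_pow, h5, one_pow, sub_self]
    have h7 : c = 1 := sub_eq_zero.1 (pow_eq_zero_iff (pow_ne_zero _ hp.ne_zero) |>.1 h6)
    obtain ⟨a, ha⟩ := hws ⟨v, hv⟩
    have ha' : a • w = v := congrArg Subtype.val ha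
    rw [← ha', Matrix.mulVec_smul, ← hc', h7, one_smul]
  have h2 : ∀ v, (x : Matrix (Fin 3) (Fin 3) F) *ᵥ v = v := by
    intro v
    have hv : v ∈ iSup D := by rw [hD.iSup_eq_top]; exact Submodule.mem_top
    refine Submodule.iSup_induction D (motive := fun v => (x : Matrix (Fin 3) (Fin 3) F) *ᵥ v = v) hv h1 ?_ ?_
    · exact Matrix.mulVec_zero _
    · intro a b ha hb
      rw [Matrix.mulVec_add, ha, hb]
  apply Units.ext
  ext i j
  have := congrFun (h2 (Pi.single j 1)) i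
  rw [Matrix.mulVec_single_one] at this
  rw [Units.val_one, Matrix.one_apply]
  simpa [Pi.single_apply] using this

/-- a subgroup of the frame stabiliser consisting of `p`-elements, `p` the characteristic, embeds in `S₃` -/
theorem card_le_of_frame (hD : IsMDecomposition 1 D) {p : ℕ} [CharP F p] (hp : p.Prime) {U : Subgroup (GL (Fin 3) F)}
    (hU : U ≤ decompositionStabilizer D) (hUp : ∀ x ∈ U, ∃ k, x ^ p ^ k = 1) : Nat.card U ∣ 6 := by
  obtain ⟨ψ, hψ⟩ := exists_permHom hD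
  let φ : U →* Equiv.Perm (Fin 3) := ψ.comp (Subgroup.inclusion hU)
  have hinj : Function.Injective φ := by
    rw [injective_iff_map_eq_one]
    intro x hx
    obtain ⟨k, hk⟩ := hUp x x.2
    apply Subtype.ext
    refine eq_one_of_fix hD (fun i => ?_) hp hk
    have := hψ (Subgroup.inclusion hU x) i
    have h2 : ψ (Subgroup.inclusion hU x) = 1 := hx
    rw [h2] at this
    exact this
  have h1 := Subgroup.card_dvd_of_injective φ hinj
  have h2 : Nat.card (Equiv.Perm (Fin 3)) = 6 := by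
    rw [Nat.card_eq_fintype_card, Fintype.card_perm, Fintype.card_fin]; rfl
  rwa [h2] at h1

/-- an irreducible element of prime order `> 3` is in no frame stabiliser -/
theorem not_mem_frame (hD : IsMDecomposition 1 D) {x : GL (Fin 3) F} {r : ℕ} (hr : r.Prime) (hr3 : 3 < r)
    (hx : orderOf x = r)
    (hirr : ∀ W : Submodule F (Fin 3 → F), (∀ w ∈ W, (x : Matrix (Fin 3) (Fin 3) F) *ᵥ w ∈ W) → W = ⊥ ∨ W = ⊤) :
    x ∉ decompositionStabilizer D := by
  intro hxD
  obtain ⟨ψ, hψ⟩ := exists_permHom hD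
  have h1 : ψ ⟨x, hxD⟩ ^ r = 1 := by
    rw [← map_pow]
    have : (⟨x, hxD⟩ : decompositionStabilizer D) ^ r = 1 := Subtype.ext (by rw [← hx]; exact pow_orderOf_eq_one x)
    rw [this, map_one]
  have h2 : ψ ⟨x, hxD⟩ = 1 := by
    rw [← orderOf_eq_one_iff]
    have h3 : orderOf (ψ ⟨x, hxD⟩) ∣ r := orderOf_dvd_of_pow_eq_one h1
    have h4 : orderOf (ψ ⟨x, hxD⟩) ∣ 6 := by
      have h2 : Nat.card (Equiv.Perm (Fin 3)) = 6 := by
        rw [Nat.card_eq_fintype_card, Fintype.card_perm, Fintype.card_fin]; rfl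
      rw [← h2]; exact orderOf_dvd_natCard _
    rcases (Nat.dvd_prime hr).1 h3 with h5 | h5
    · exact h5
    · exfalso
      rw [h5] at h4
      have : r ∣ 2 * 3 := h4
      rcases (hr.dvd_mul).1 this with h6 | h6
      · have := Nat.le_of_dvd (by norm_num) h6; omega
      · have := Nat.le_of_dvd (by norm_num) h6; omega
  have h3 := hψ ⟨x, hxD⟩ 0
  rw [h2] at h3
  have h4 := hirr (D 0) (fun w hw => by
    have h5 : (D 0).map (Matrix.toLin' (x : Matrix (Fin 3) (Fin 3) F)) = D 0 := h3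
    rw [← h5]
    exact ⟨w, hw, by rw [Matrix.toLin'_apply]⟩)
  have h5 := hD.finrank_eq 0
  rcases h4 with h4 | h4
  · rw [h4, finrank_bot] at h5
    exact zero_ne_one h5
  · rw [h4, finrank_top] at h5
    simp at h5

end frames

/-! ### The element of order `r` -/

/-- the primitive prime divisors of `p ^ (6 f) - 1` -/
theorem exists_ppd {p f : ℕ} (hp : p.Prime) (hf : f ≠ 0) (hq : p ^ f ≠ 2) :
    ∃ r : ℕ, r.Prime ∧ (∀ m, r ∣ p ^ m - 1 ↔ 6 * f ∣ m) ∧ 5 ≤ r ∧ ¬ r ∣ p ∧ r ∣ (p ^ f) ^ 3 + 1 := by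
  obtain ⟨r, hr, h1, h2, h3⟩ := Cfsg.Agent.Lib.Zsigmondy.exists_primitive (a := p) (n := 6 * f) hp.two_le
    (by omega) (by omega) (by
      rintro ⟨h4, h5⟩
      apply hq
      have : f = 1 := by omega
      rw [h4, this, pow_one])
  refine ⟨r, hr, h1, ?_, h3, ?_⟩
  · have h4 : 6 * f ≤ r - 1 := Nat.le_of_dvd (by have := hr.two_le; omega) h2
    omega
  · have h4 : r ∣ p ^ (6 * f) - 1 := (h1 _).2 dvd_rfl
    have h5 : ¬ r ∣ p ^ (3 * f) - 1 := fun h => by
      have := Nat.le_of_dvd (by omega) ((h1 _).1 h)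
      omega
    have h6 : p ^ (6 * f) - 1 = ((p ^ f) ^ 3 + 1) * (p ^ (3 * f) - 1) := by
      rw [← pow_mul, mul_comm f 3, Nat.mul_sub_one, add_mul, ← pow_add, show 3 * f + 3 * f = 6 * f by ring]
      have : 1 ≤ p ^ (3 * f) := Nat.one_le_pow _ _ hp.pos
      omega
    rw [h6] at h4
    exact (hr.dvd_mul.1 h4).resolve_right h5

/-- an element of order `r`, irreducible -/
theorem exists_elt [Fintype F] {q : ℕ} (hF : Fintype.card F = q ^ 2) {p f : ℕ} (hq : q = p ^ f)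
    {r : ℕ} (hr : r.Prime) (h1 : ∀ m, r ∣ p ^ m - 1 ↔ 6 * f ∣ m) (h2 : ¬ r ∣ p) (h3 : r ∣ q ^ 3 + 1) (hf : f ≠ 0) :
    ∃ x ∈ SUg 3 F q, orderOf x = r ∧
      ∀ W : Submodule F (Fin 3 → F), (∀ w ∈ W, (x : Matrix (Fin 3) (Fin 3) F) *ᵥ w ∈ W) → W = ⊥ ∨ W = ⊤ := by
  have := Fact.mk hr
  have h4 : r ∣ Nat.card (SUg 3 F q) := by
    rw [card_SUg hF]
    exact h3.mul_left _
  obtain ⟨⟨x, hx⟩, hxo⟩ := exists_prime_orderOf_dvd_card' r h4
  rw [Subgroup.orderOf_mk] at hxo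
  refine ⟨x, hx, hxo, fun W hW => ?_⟩
  refine Cfsg.Agent.H915.irr_of_prime_order hr hxo ?_ ?_ hW
  · rw [hF, hq]
    intro h
    exact h2 (hr.dvd_of_dvd_pow (hr.dvd_of_dvd_pow h))
  · intro i hi hi3 h
    rw [hF, hq, ← pow_mul, ← pow_mul, h1] at h
    rw [Fintype.card_fin] at hi3
    have h5 : 0 < f * (2 * i) := by positivity
    have h6 := Nat.le_of_dvd h5 h
    have h7 : f * (2 * i) ≤ f * 4 := Nat.mul_le_mul_left _ (by omega)
    omega

end Cfsg.Agent.H950.MC
end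

-- part: H950/MCSub
section
/-!
# The subfield groups of `SU₃(q)` (helper950, for S5906, S5907)
-/

set_option autoImplicit false
set_option linter.unusedSectionVars false

namespace Cfsg.Agent.H950.MC

open Cfsg Cfsg.Geo Matrix Cfsg.Agent.H918 Cfsg.Agent.LieClassical.HermBasic Cfsg.Agent.H907 Cfsg.Agent.H907.SU3
  Cfsg.Agent.H907.Mx Cfsg.Agent.H914
open scoped MatrixGroups

variable {F : Type*} [Field F]

theorem mem_sub_of {F₀ : Subfield F} {g : GL (Fin 3) F} (h : ∀ i j, (g : Matrix (Fin 3) (Fin 3) F) i j ∈ F₀) :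
    g ∈ subfieldSubgroup F₀ 1 :=
  mem_subfieldSubgroup_iff.2 ⟨1, one_ne_zero, fun i j => by simpa using h i j⟩

section two

variable [Fintype F] {q : ℕ} (hF : Fintype.card F = q ^ 2)
include hF

/-- the standard rational structure -/
theorem formRational {F₀ : Subfield F} (h : ∀ x ∈ F₀, x ^ q ∈ F₀) :
    IsFormRationalStructure (hermForm 3 F q) F₀ 1 1 := by
  intro u v hu hv
  rw [one_mul, Units.val_one, Matrix.one_mulVec, Matrix.one_mulVec, herm_def]
  exact F₀.sum_mem fun i _ => F₀.mul_mem (hu i) (h _ (hv i))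

theorem formRational' {F₀ : Subfield F} : IsFormRationalStructure (hermForm 3 F q) F₀ 1 1 :=
  formRational hF fun _ hx => F₀.pow_mem hx q

end two

/-! ### Real unipotent elements -/

section real

/-- the nilpotent antisymmetric matrix -/
def nil (a b c : F) : Matrix (Fin 3) (Fin 3) F := !![0, c, -b; -c, 0, a; b, -a, 0]

theorem nil_cube {a b c : F} (h : a ^ 2 + b ^ 2 + c ^ 2 = 0) : nil a b c * nil a b c * nil a b c = 0 := by
  have h1 : nil a b c * nil a b c * nil a b c = -(a ^ 2 + b ^ 2 + c ^ 2) • nil a b c := by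
    ext i j
    (revert i j; simp only [nil, Matrix.mul_apply, Fin.sum_univ_three, _root_.Fin.forall_fin_succ, _root_.Matrix.cons_mul, _root_.Nat.succ_eq_add_one, Nat.reduceAdd, _root_.Matrix.vecMul_cons, _root_.Matrix.head_cons, _root_.zero_smul, _root_.Matrix.tail_cons, _root_.Matrix.smul_cons, _root_.smul_eq_mul, _root_.mul_neg, _root_.MulZeroClass.mul_zero, _root_.Matrix.smul_empty, _root_.neg_smul, _root_.Matrix.neg_cons, _root_.neg_neg, _root_.neg_zero, _root_.Matrix.neg_empty, _root_.Matrix.empty_vecMul, _root_.add_zero, _root_.Matrix.add_cons, _root_.zero_add, _root_.Matrix.empty_add_empty, _root_.Matrix.empty_mul, _root_.Equiv.symm_apply_apply, _root_.Matrix.of_apply, _root_.Matrix.cons_val', _root_.Matrix.cons_val_fin_one, Fin.isValue, _root_.Matrix.cons_val_zero, _root_.Matrix.cons_val_one, _root_.Matrix.cons_val, _root_.neg_add_rev, _root_.Matrix.smul_apply, _root_.Matrix.cons_val_succ, _root_.forall_const]) <;>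 (repeat' with_reducible apply And.intro) <;> ring
  rw [h1, h, neg_zero, zero_smul]

theorem nil_transpose {a b c : F} : (nil a b c)ᵀ = - nil a b c := by
  ext i j
  (revert i j; simp only [nil, _root_.Fin.forall_fin_succ, _root_.Matrix.transpose_apply, _root_.Matrix.of_apply, _root_.Matrix.cons_val', _root_.Matrix.cons_val_fin_one, _root_.Matrix.neg_apply, Fin.isValue, _root_.Matrix.cons_val_zero, _root_.Matrix.cons_val_succ, _root_.forall_const, _root_.neg_zero, _root_.neg_neg, _root_.and_self, _root_.implies_true])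

/-- the exponential -/
def ex (N : Matrix (Fin 3) (Fin 3) F) (t : F) : Matrix (Fin 3) (Fin 3) F := 1 + t • N + (t ^ 2 / 2) • (N * N)

theorem ex_mul {N : Matrix (Fin 3) (Fin 3) F} (h2 : (2 : F) ≠ 0) (hN : N * N * N = 0) (s t : F) :
    ex N s * ex N t = ex N (s + t) := by
  have h3 : N * (N * N) = 0 := by rw [← mul_assoc, hN]
  have h4 : N * N * (N * N) = 0 := by rw [← mul_assoc, hN, zero_mul]
  have h5 : (s + t) ^ 2 / 2 = s ^ 2 / 2 + s * t + t ^ 2 / 2 := by field_simp; ring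
  rw [ex, ex, ex, h5]
  simp only [add_mul, mul_add, one_mul, mul_one, Matrix.smul_mul, Matrix.mul_smul, h3, hN, h4, smul_zero, add_zero,
    smul_smul, add_smul]
  rw [mul_comm t s]
  abel

theorem ex_zero {N : Matrix (Fin 3) (Fin 3) F} : ex N 0 = 1 := by
  rw [ex]; simp

theorem ex_transpose {N : Matrix (Fin 3) (Fin 3) F} (hN : Nᵀ = -N) (t : F) : (ex N t)ᵀ = ex N (-t) := by
  rw [ex, ex, Matrix.transpose_add, Matrix.transpose_add, Matrix.transpose_one, Matrix.transpose_smul,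
    Matrix.transpose_smul, Matrix.transpose_mul, hN, neg_mul_neg, smul_neg, neg_smul]
  simp only [_root_.even_two, _root_.Even.neg_pow]

theorem ex_injective {N : Matrix (Fin 3) (Fin 3) F} (hN : N * N * N = 0) (hN0 : N ≠ 0) {t : F}
    (h : ex N t = 1) : t = 0 := by
  by_contra ht
  have h1 : t • N + (t ^ 2 / 2) • (N * N) = 0 := by
    have := h
    rw [ex, add_assoc, add_eq_left] at this
    exact this
  have h3 : N * N = 0 := by
    have h4 := congrArg (fun X => X * N) h1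
    simp only [add_mul, Matrix.smul_mul, hN, smul_zero, add_zero, zero_mul] at h4
    exact (smul_eq_zero.1 h4).resolve_left ht
  rw [h3, smul_zero, add_zero] at h1
  exact hN0 ((smul_eq_zero.1 h1).resolve_left ht)

variable [Fintype F] {q : ℕ} (hF : Fintype.card F = q ^ 2)
include hF

theorem ex_real {F₀ : Subfield F} {N : Matrix (Fin 3) (Fin 3) F} (hN : ∀ i j, N i j ∈ F₀) {t : F} (ht : t ∈ F₀)
    (i j : Fin 3) : ex N t i j ∈ F₀ := by
  rw [ex, Matrix.add_apply, Matrix.add_apply, Matrix.smul_apply, Matrix.smul_apply, Matrix.mul_apply, smul_eq_mul,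
    smul_eq_mul]
  refine F₀.add_mem (F₀.add_mem ?_ (F₀.mul_mem ht (hN i j))) (F₀.mul_mem (F₀.div_mem (F₀.pow_mem ht 2) ?_)
    (F₀.sum_mem fun k _ => F₀.mul_mem (hN i k) (hN k j)))
  · rw [Matrix.one_apply]
    split_ifs
    · exact F₀.one_mem
    · exact F₀.zero_mem
  · have := F₀.add_mem F₀.one_mem F₀.one_mem
    rwa [one_add_one_eq_two] at this

/-- **Real unipotent elements**: a subgroup of order `q` and exponent `p` in the real type. -/
theorem exists_real_unip (hq : Odd q) {p : ℕ} [CharP F p] {F₀ : Subfield F}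
    (hc : Fintype.card F = Nat.card F₀ ^ 2) :
    ∃ U : Subgroup (GL (Fin 3) F), U ≤ subfieldSubgroup F₀ 1 ⊓ SUg 3 F q ∧ Nat.card U = q ∧ ∀ x ∈ U, x ^ p = 1 := by
  have hF₀ : Nat.card F₀ = q := by
    rw [hF] at hc
    exact (Nat.pow_left_injective two_ne_zero hc).symm
  have h2 : (2 : F) ≠ 0 := by
    intro h
    have h3 : CharP F 2 := CharTwo.of_one_ne_zero_of_two_eq_zero one_ne_zero h
    obtain ⟨n, -, hn⟩ := FiniteField.card F 2
    rw [hF] at hn
    have h4 : Odd (q ^ 2) := hq.pow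
    rw [hn, Nat.odd_pow_iff n.ne_zero] at h4
    exact absurd h4 (by decide)
  have h2₀ : (2 : F₀) ≠ 0 := fun h => h2 (congrArg Subtype.val h)
  obtain ⟨s, t, hst⟩ := exists_two_sq h2₀ (one_ne_zero (α := F₀)) (one_ne_zero (α := F₀)) (-1)
  have hst' : (1 : F) ^ 2 + (s : F) ^ 2 + (t : F) ^ 2 = 0 := by
    have := congrArg (Subtype.val) hst
    push_cast at this
    linear_combination this
  obtain ⟨N, hN⟩ : ∃ N, N = nil (1 : F) s t := ⟨_, rfl⟩
  have hN3 : N * N * N = 0 := by rw [hN]; exact nil_cube hst'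
  have hNt : Nᵀ = -N := by rw [hN]; exact nil_transpose
  have hN0 : N ≠ 0 := by
    intro h
    have := congrFun (congrFun h 1) 2
    rw [hN] at this
    simp [nil] at this
  have hNr : ∀ i j, N i j ∈ F₀ := by
    intro i j
    rw [hN]
    (revert i j; simp only [nil, F₀.zero_mem, F₀.one_mem, F₀.neg_mem, _root_.Fin.forall_fin_succ, _root_.Matrix.of_apply, _root_.Matrix.cons_val', _root_.Matrix.cons_val_fin_one, Fin.isValue, _root_.Matrix.cons_val_zero, _root_.Matrix.cons_val_succ, _root_.forall_const, _root_.SetLike.coe_mem, _root_.and_self, _root_.implies_true])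
  -- the homomorphism
  let u : Multiplicative F₀ →* GL (Fin 3) F := MonoidHom.mk'
    (fun t => ⟨ex N ((Multiplicative.toAdd t : F₀) : F), ex N (-((Multiplicative.toAdd t : F₀) : F)),
      by rw [ex_mul h2 hN3, add_neg_cancel, ex_zero], by rw [ex_mul h2 hN3, neg_add_cancel, ex_zero]⟩)
    (fun a b => by
      apply Units.ext
      show ex N (((Multiplicative.toAdd a + Multiplicative.toAdd b : F₀)) : F) = _
      rw [Units.val_mul]
      show _ = ex N _ * ex N _
      rw [ex_mul h2 hN3]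
      rfl)
  have hu : ∀ t, (u t : Matrix (Fin 3) (Fin 3) F) = ex N ((Multiplicative.toAdd t : F₀) : F) := fun _ => rfl
  have hinj : Function.Injective u := by
    rw [injective_iff_map_eq_one]
    intro t ht
    have h3 := congrArg Units.val ht
    rw [hu, Units.val_one] at h3
    have h4 := ex_injective hN3 hN0 h3
    apply Multiplicative.toAdd.injective
    exact Subtype.ext h4
  have hfix : ∀ x ∈ F₀, x ^ q = x := fun x hx => (mem_F₀_iff hF hc x).1 hx
  refine ⟨u.range, ?_, ?_, ?_⟩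
  · rintro _ ⟨t, rfl⟩
    have hr : ∀ i j, (u t : Matrix (Fin 3) (Fin 3) F) i j ∈ F₀ := by
      intro i j
      rw [hu]
      exact ex_real hF hNr (Multiplicative.toAdd t).2 i j
    have hct : ∀ t : Multiplicative F₀, ct q (u t : Matrix (Fin 3) (Fin 3) F) * (u t : Matrix (Fin 3) (Fin 3) F) = 1 := by
      intro t
      have h3 : ct q (u t : Matrix (Fin 3) (Fin 3) F) = (u t : Matrix (Fin 3) (Fin 3) F)ᵀ := by
        ext i j
        rw [Matrix.transpose_apply]
        show ((u t : Matrix (Fin 3) (Fin 3) F) j i) ^ q = _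
        rw [hu]
        exact hfix _ (ex_real hF hNr (Multiplicative.toAdd t).2 j i)
      rw [h3, hu, ex_transpose hNt, ex_mul h2 hN3, neg_add_cancel, ex_zero]
    refine ⟨mem_sub_of hr, (mem_GU_iff_ct hF).2 (hct t), mem_specialLinear.2 ?_⟩
    -- the determinant of a square
    obtain ⟨s, hs⟩ : ∃ s : Multiplicative F₀, u t = u s * u s := by
      refine ⟨Multiplicative.ofAdd (Multiplicative.toAdd t / 2), ?_⟩
      have : NeZero (2 : F₀) := ⟨h2₀⟩
      rw [← map_mul, ← ofAdd_add, add_halves]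
      rfl
    have h4 := congrArg Matrix.det (hct s)
    rw [Matrix.det_mul, Matrix.det_one] at h4
    have h5 : (ct q (u s : Matrix (Fin 3) (Fin 3) F)).det = (u s : Matrix (Fin 3) (Fin 3) F).det := by
      have h3 : ct q (u s : Matrix (Fin 3) (Fin 3) F) = (u s : Matrix (Fin 3) (Fin 3) F)ᵀ := by
        ext i j
        rw [Matrix.transpose_apply]
        show ((u s : Matrix (Fin 3) (Fin 3) F) j i) ^ q = _
        rw [hu]
        exact hfix _ (ex_real hF hNr (Multiplicative.toAdd s).2 j i)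
      rw [h3, Matrix.det_transpose]
    rw [h5] at h4
    rw [hs, Units.val_mul, Matrix.det_mul, h4]
  · rw [← hF₀, ← Nat.card_congr (MonoidHom.ofInjective hinj).toEquiv]
    rfl
  · rintro _ ⟨t, rfl⟩
    rw [← map_pow]
    have h3 : t ^ p = 1 := by
      apply Multiplicative.toAdd.injective
      apply Subtype.ext
      rw [toAdd_pow, toAdd_one]
      push_cast
      rw [nsmul_eq_mul, CharP.cast_eq_zero F p, zero_mul]
    rw [h3, map_one]

end real

/-! ### The image of `SU₃` of a subfield -/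

section odd

open Cfsg.Agent.H930.GUSub

variable [Fintype F] {q : ℕ}

theorem map_mem {F₁ : Subfield F} [Fintype F₁] {q₁ : ℕ} (S : Setup F₁ q q₁) {g : GL (Fin 3) F₁}
    (hg : g ∈ SUg 3 F₁ q₁) : Matrix.GeneralLinearGroup.map (F₁.subtype : F₁ →+* F) g ∈
      subfieldSubgroup F₁ 1 ⊓ SUg 3 F q := by
  have h0 : ((Matrix.GeneralLinearGroup.map (F₁.subtype : F₁ →+* F) g : GL (Fin 3) F) : Matrix (Fin 3) (Fin 3) F) =
    (g : Matrix (Fin 3) (Fin 3) F₁).map F₁.subtype := rfl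
  refine ⟨mem_sub_of fun i j => ?_, (mem_GU_iff_ct S.hF).2 ?_, mem_specialLinear.2 ?_⟩
  · rw [h0]
    exact ((g : Matrix (Fin 3) (Fin 3) F₁) i j).2
  · rw [h0]
    have h3 : ct q ((g : Matrix (Fin 3) (Fin 3) F₁).map F₁.subtype) = (ct q₁ (g : Matrix (Fin 3) (Fin 3) F₁)).map F₁.subtype := by
      ext i j
      show (((g : Matrix (Fin 3) (Fin 3) F₁) j i : F₁) : F) ^ q = ((((g : Matrix (Fin 3) (Fin 3) F₁) j i) ^ q₁ : F₁) : F)
      exact S.pow_eq _
    rw [h3, ← Matrix.map_mul, (mem_GU_iff_ct S.hF₀).1 hg.1, Matrix.map_one _ (map_zero _) (map_one _)]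
  · rw [h0]
    have h3 : F₁.subtype.mapMatrix (g : Matrix (Fin 3) (Fin 3) F₁) = (g : Matrix (Fin 3) (Fin 3) F₁).map F₁.subtype := rfl
    rw [← h3, ← RingHom.map_det, mem_specialLinear.1 hg.2, map_one]

theorem card_dvd_sub {F₁ : Subfield F} [Fintype F₁] {q₁ : ℕ} (S : Setup F₁ q q₁) :
    q₁ ^ 3 * (q₁ ^ 2 - 1) * (q₁ ^ 3 + 1) ∣ Nat.card ↥(subfieldSubgroup F₁ 1 ⊓ SUg 3 F q : Subgroup (GL (Fin 3) F)) := by
  rw [← card_SUg S.hF₀]
  let φ : SUg 3 F₁ q₁ →* ↥(subfieldSubgroup F₁ 1 ⊓ SUg 3 F q : Subgroup (GL (Fin 3) F)) :=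
    ((Matrix.GeneralLinearGroup.map (F₁.subtype : F₁ →+* F)).comp (SUg 3 F₁ q₁).subtype).codRestrict _
      fun g => map_mem S g.2
  refine Subgroup.card_dvd_of_injective φ ?_
  intro a b hab
  apply Subtype.ext
  apply Units.ext
  have h1 : (((a : GL (Fin 3) F₁) : Matrix (Fin 3) (Fin 3) F₁).map F₁.subtype) =
      (((b : GL (Fin 3) F₁) : Matrix (Fin 3) (Fin 3) F₁).map F₁.subtype) :=
    congrArg (fun x : ↥(subfieldSubgroup F₁ 1 ⊓ SUg 3 F q : Subgroup (GL (Fin 3) F)) =>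
      ((x : GL (Fin 3) F) : Matrix (Fin 3) (Fin 3) F)) hab
  ext i j
  exact congrFun (congrFun h1 i) j

end odd

end Cfsg.Agent.H950.MC
end

-- part: H950/MCFive
section
/-!
# Five classes of maximal subgroups in `PSU₃(q)`, `q ≠ 5` (helper950, for S5906, S5907)
-/

set_option autoImplicit false
set_option linter.unusedSectionVars false
set_option linter.unusedSimpArgs false

namespace Cfsg.Agent.H950.MC

open Cfsg Cfsg.Geo Matrix Cfsg.Agent.H918 Cfsg.Agent.LieClassical.HermBasic Cfsg.Agent.H907 Cfsg.Agent.H907.SU3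
  Cfsg.Agent.H907.Mx Cfsg.Agent.H914 Cfsg.Agent.H940.MaxCls
open scoped MatrixGroups

/-- the parts (1)–(6) of S5777 -/
structure Geom (F : Type*) [Field F] [Fintype F] (q : ℕ) : Prop where
  sing : ∀ W : Submodule F (Fin 3 → F), W ≠ ⊥ → IsTotallySingularFor (hermForm 3 F q) W →
    IsMaximalIn (SUg 3 F q) (subspaceStabilizer W ⊓ SUg 3 F q)
  nons : ∀ W : Submodule F (Fin 3 → F), W ≠ ⊥ → IsNondegenerateOn (hermForm 3 F q) W → 2 * Module.finrank F W < 3 →
    IsMaximalIn (SUg 3 F q) (subspaceStabilizer W ⊓ SUg 3 F q)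
  frame : q ≠ 5 → ∀ D : Fin 3 → Submodule F (Fin 3 → F), IsNondegenerateMDecomposition (hermForm 3 F q) 1 D →
    IsMaximalIn (SUg 3 F q) (decompositionStabilizer D ⊓ SUg 3 F q)
  cubic : q ≠ 3 → q ≠ 5 → ∀ K : Subalgebra F (Matrix (Fin 3) (Fin 3) F), IsFieldSubalgebra 3 K →
    IsAdjointClosedFor (hermForm 3 F q) K → IsMaximalIn (SUg 3 F q) (subalgebraNormalizer K ⊓ SUg 3 F q)
  sub : ∀ (F₀ : Subfield F) (r : ℕ) (P : GL (Fin 3) F), r.Prime → Odd r → Fintype.card F = Nat.card F₀ ^ r →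
    IsFormRationalStructure (hermForm 3 F q) F₀ 1 P → IsMaximalIn (SUg 3 F q) (subfieldSubgroup F₀ P ⊓ SUg 3 F q)
  real : Odd q → 7 ≤ q → ∀ (F₀ : Subfield F) (P : GL (Fin 3) F), Fintype.card F = Nat.card F₀ ^ 2 →
    IsFormRationalStructure (hermForm 3 F q) F₀ 1 P → IsMaximalIn (SUg 3 F q) (subfieldSubgroup F₀ P ⊓ SUg 3 F q)

variable {F : Type*} [Field F]

/-! ### Irreducible groups -/

theorem irr_of_diag_cyc {B : Subgroup (GL (Fin 3) F)} {x c : GL (Fin 3) F} (hx : x ∈ B) (hc : c ∈ B) {δ : Fin 3 → F}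
    (hδ : Function.Injective δ) (hxδ : (x : Matrix (Fin 3) (Fin 3) F) = Matrix.diagonal δ)
    (hcc : (c : Matrix (Fin 3) (Fin 3) F) = !![0, 0, 1; 1, 0, 0; 0, 1, 0]) : Irr B :=
  fun _ hW => irr_of hδ hxδ hcc (hW x hx) (hW c hc)

/-- the group generated by the diagonal matrices with entries `± 1` and the cyclic permutation is irreducible -/
theorem irr_of_signs (h2 : (2 : F) ≠ 0) {B : Subgroup (GL (Fin 3) F)} {c : GL (Fin 3) F} (hc : c ∈ B)
    (hcc : (c : Matrix (Fin 3) (Fin 3) F) = !![0, 0, 1; 1, 0, 0; 0, 1, 0])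
    (hs : ∀ i : Fin 3, ∃ s ∈ B, (s : Matrix (Fin 3) (Fin 3) F) = Matrix.diagonal fun j => if j = i then 1 else -1) :
    Irr B := by
  intro W hW
  by_cases hW0 : W = ⊥
  · exact Or.inl hW0
  · right
    obtain ⟨v, hv, hv0⟩ := Submodule.exists_mem_ne_zero_of_ne_bot hW0
    obtain ⟨i, hi⟩ := Function.ne_iff.1 hv0
    obtain ⟨s, hsB, hss⟩ := hs i
    have h1 : v + (s : Matrix (Fin 3) (Fin 3) F) *ᵥ v ∈ W := W.add_mem hv (hW s hsB v hv)
    have h3 : v + (s : Matrix (Fin 3) (Fin 3) F) *ᵥ v = (2 * v i) • Pi.single i 1 := by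
      rw [hss]
      ext j
      rw [Pi.add_apply, Matrix.mulVec_diagonal, Pi.smul_apply, smul_eq_mul]
      by_cases hj : j = i
      · subst hj
        rw [if_pos rfl, Pi.single_eq_same]; ring
      · rw [if_neg hj, Pi.single_eq_of_ne hj]; ring
    rw [h3] at h1
    exact top_of_cyc hcc (hW c hc) ((Submodule.smul_mem_iff W (mul_ne_zero h2 hi)).1 h1)

section main

variable [Fintype F] {q : ℕ} (hF : Fintype.card F = q ^ 2)
include hF

/-- an irreducible element of prime order `r > 3` has no fixed vectors, nor has its cube -/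
theorem det_cube_ne {x : GL (Fin 3) F} {r : ℕ} (hr : r.Prime) (hr3 : 3 < r) (hx : orderOf x = r)
    (hirr : ∀ W : Submodule F (Fin 3 → F), (∀ w ∈ W, (x : Matrix (Fin 3) (Fin 3) F) *ᵥ w ∈ W) → W = ⊥ ∨ W = ⊤) :
    (((x ^ 3 : GL (Fin 3) F) : Matrix (Fin 3) (Fin 3) F) - 1).det ≠ 0 := by
  intro h
  obtain ⟨v, hv0, hv⟩ := Matrix.exists_mulVec_eq_zero_iff.2 h
  have h1 : ((x ^ 3 : GL (Fin 3) F) : Matrix (Fin 3) (Fin 3) F) *ᵥ v = v := by
    rw [Matrix.sub_mulVec, Matrix.one_mulVec, sub_eq_zero] at hv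
    exact hv
  -- `x` is a power of `x ^ 3`
  have hcop : Nat.Coprime 3 r := by
    rw [Nat.coprime_comm]
    refine (Nat.Prime.coprime_iff_not_dvd hr).2 fun h3 => ?_
    have := Nat.le_of_dvd (by norm_num) h3
    omega
  have h2 : ∃ n : ℕ, (x ^ 3) ^ n = x := by
    have h3 : x ∈ Subgroup.zpowers (x ^ 3) := by
      have h4 : Subgroup.zpowers (x ^ 3) = Subgroup.zpowers x := by
        apply Subgroup.eq_of_le_of_card_ge
        · rw [Subgroup.zpowers_le]
          exact Subgroup.npow_mem_zpowers x 3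
        · rw [Nat.card_zpowers, Nat.card_zpowers, Nat.Coprime.orderOf_pow]
          rw [hx]; exact hcop.symm
      rw [h4]; exact Subgroup.mem_zpowers x
    have h4 := mem_powers_iff_mem_zpowers.2 h3
    exact h4
  obtain ⟨n, hn⟩ := h2
  have hpow : ∀ n : ℕ, (((x ^ 3) ^ n : GL (Fin 3) F) : Matrix (Fin 3) (Fin 3) F) *ᵥ v = v := by
    intro n
    induction n with
    | zero => simp
    | succ n ih => rw [pow_succ, Units.val_mul, ← Matrix.mulVec_mulVec, h1, ih]
  have h3 := hpow n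
  rw [hn] at h3
  rcases hirr (F ∙ v) (fun w hw => by
    obtain ⟨a, rfl⟩ := Submodule.mem_span_singleton.1 hw
    rw [Matrix.mulVec_smul, h3]
    exact hw) with h4 | h4
  · exact hv0 (Submodule.span_singleton_eq_bot.1 h4)
  · have h5 := finrank_span_singleton (K := F) hv0
    rw [h4, finrank_top] at h5
    simp at h5

/-- The general assembly, with the fifth subgroup `E` as a parameter. -/
theorem sep_five_of (hG : Geom F q) (hq4 : 4 ≤ q) (hq5 : q ≠ 5) {p f : ℕ} [CharP F p] (hp : p.Prime) (hqp : q = p ^ f)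
    {E : Subgroup (GL (Fin 3) F)} (hE : IsMaximalIn (SUg 3 F q) E) (hEirr : Irr E)
    {U : Subgroup (GL (Fin 3) F)} (hUE : U ≤ E) (hUp : ∀ x ∈ U, ∃ k, x ^ p ^ k = 1) (hU6 : ¬ Nat.card U ∣ 6)
    (hEr : ∀ r : ℕ, r.Prime → (∀ m, r ∣ p ^ m - 1 ↔ 6 * f ∣ m) → 5 ≤ r → ¬ r ∣ p → ∀ x ∈ SUg 3 F q, orderOf x = r →
      (∀ W : Submodule F (Fin 3 → F), (∀ w ∈ W, (x : Matrix (Fin 3) (Fin 3) F) *ᵥ w ∈ W) → W = ⊥ ∨ W = ⊤) →
      x ∉ E) : Sep 5 (PSU 3 F q) := by
  have hf : f ≠ 0 := by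
    rintro rfl
    rw [pow_zero] at hqp
    omega
  obtain ⟨r, hr, hr1, hr5, hrp, hrq⟩ := exists_ppd hp hf (by rw [← hqp]; omega)
  rw [← hqp] at hrq
  obtain ⟨x, hxS, hxr, hxirr⟩ := exists_elt hF hqp hr hr1 hrp hrq hf
  obtain ⟨W₁, hW1, hW1', hW1s⟩ := exists_sing hF
  have hDec := frame_decomp hF (Subgroup.one_mem (Cfsg.GU 3 F q))
  obtain ⟨D, hD⟩ : ∃ D : Fin 3 → Submodule F (Fin 3 → F), D = fun i => F ∙ (((1 : GL (Fin 3) F) :
    Matrix (Fin 3) (Fin 3) F) *ᵥ Pi.single i 1) := ⟨_, rfl⟩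
  rw [← hD] at hDec
  obtain ⟨W₂, hW2d⟩ : ∃ W₂, W₂ = D 0 := ⟨_, rfl⟩
  have hW2r : Module.finrank F W₂ = 1 := by rw [hW2d]; exact hDec.decomp.finrank_eq 0
  have hW2 : W₂ ≠ ⊥ := by
    rintro rfl
    rw [finrank_bot] at hW2r
    exact zero_ne_one hW2r
  have hW2' : W₂ ≠ ⊤ := by
    rintro rfl
    rw [finrank_top] at hW2r
    simp at hW2r
  have hW2s : IsNondegenerateOn (hermForm 3 F q) W₂ := by rw [hW2d]; exact hDec.nondegenerate 0
  have hW2f : 2 * Module.finrank F W₂ < 3 := by omega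
  have hA := hG.sing W₁ hW1 hW1s
  have hB := hG.nons W₂ hW2 hW2s hW2f
  have hC := hG.frame hq5 D hDec
  -- elements of the torus
  obtain ⟨ζ, hζ⟩ := exists_orderOf_eq hF
  have hζ0 : ζ ≠ 0 := by
    rintro rfl
    rw [orderOf_zero F] at hζ
    omega
  have hζq : ζ ^ (q + 1) = 1 := by rw [← hζ]; exact pow_orderOf_eq_one ζ
  obtain ⟨t, htS, ht⟩ := exists_diag hF (a := 1) (b := ζ) (c := ζ⁻¹) (one_pow _) hζq (by rw [inv_pow, hζq, inv_one])
    (by rw [one_mul, mul_inv_cancel₀ hζ0])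
  have hζ1 : ζ ≠ 1 := by
    intro h
    rw [h, orderOf_one] at hζ
    omega
  have hζ2 : ζ ≠ ζ⁻¹ := by
    intro h
    have h1 : ζ ^ 2 = 1 := by rw [sq]; nth_rewrite 2 [h]; exact mul_inv_cancel₀ hζ0
    have h2 := Nat.le_of_dvd (by norm_num) (orderOf_dvd_of_pow_eq_one h1)
    omega
  have hinj : Function.Injective ![(1 : F), ζ, ζ⁻¹] := by
    intro i j hij
    have h1 : (1 : F) ≠ ζ⁻¹ := fun h => hζ1 (by rw [← inv_inv ζ, ← h, inv_one])
    fin_cases i <;> fin_cases j <;> simp at hij ⊢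
    · exact hζ1 hij.symm
    · exact h1 (by rw [hij]; simp)
    · exact hζ1 hij
    · exact hζ2 hij
    · exact h1 (by rw [hij]; simp)
    · exact hζ2 hij.symm
  obtain ⟨c, hcS, hc⟩ := exists_cyc hF
  -- diagonal and cyclic matrices in the groups
  have ht1 : ∀ i, (t : Matrix (Fin 3) (Fin 3) F) *ᵥ Pi.single i 1 = (![(1 : F), ζ, ζ⁻¹] i) • Pi.single i 1 := by
    intro i
    rw [ht]
    ext j
    rw [Matrix.mulVec_diagonal, Pi.smul_apply, smul_eq_mul]
    by_cases h : j = i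
    · subst h; rfl
    · rw [Pi.single_eq_of_ne h, mul_zero, mul_zero]
  have htD : ∀ i, (D i).map (Matrix.toLin' (t : Matrix (Fin 3) (Fin 3) F)) = D ((1 : Equiv.Perm (Fin 3)) i) := by
    intro i
    rw [hD, Equiv.Perm.one_apply]
    show (F ∙ (((1 : GL (Fin 3) F) : Matrix (Fin 3) (Fin 3) F) *ᵥ Pi.single i 1)).map _ =
      (F ∙ (((1 : GL (Fin 3) F) : Matrix (Fin 3) (Fin 3) F) *ᵥ Pi.single i 1))
    rw [Units.val_one, Matrix.one_mulVec, Submodule.map_span, Set.image_singleton, Matrix.toLin'_apply, ht1]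
    apply Submodule.span_singleton_smul_eq
    have : (![(1 : F), ζ, ζ⁻¹] i) ≠ 0 := by
      (revert i; simp only [hζ0, _root_.Fin.forall_fin_succ, _root_.Nat.succ_eq_add_one, Nat.reduceAdd, _root_.ne_eq, Fin.isValue, _root_.Matrix.cons_val_zero, _root_.one_ne_zero, _root_.not_false_eq_true, _root_.Matrix.cons_val_succ, _root_.Matrix.cons_val_fin_one, _root_.inv_eq_zero, _root_.implies_true, _root_.and_self])
    exact this.isUnit
  have htC : t ∈ decompositionStabilizer D ⊓ SUg 3 F q := ⟨⟨1, htD⟩, htS⟩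
  have htB : t ∈ subspaceStabilizer W₂ ⊓ SUg 3 F q := by
    refine ⟨fun v => ?_, htS⟩
    have h1 := htD 0
    rw [Equiv.Perm.one_apply, ← hW2d] at h1
    constructor
    · intro hv
      have : (Matrix.toLin' (t : Matrix (Fin 3) (Fin 3) F)) v ∈ W₂.map (Matrix.toLin' (t : Matrix (Fin 3) (Fin 3) F)) :=
        ⟨v, hv, rfl⟩
      rw [h1, Matrix.toLin'_apply] at this
      exact this
    · intro hv
      have h2 : (t : Matrix (Fin 3) (Fin 3) F) *ᵥ v ∈ W₂.map (Matrix.toLin' (t : Matrix (Fin 3) (Fin 3) F)) := by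
        rw [h1]; exact hv
      obtain ⟨w, hw, hwv⟩ := h2
      rw [Matrix.toLin'_apply] at hwv
      have h3 : w = v := by
        have h4 := congrArg (fun u => ((t⁻¹ : GL (Fin 3) F) : Matrix (Fin 3) (Fin 3) F) *ᵥ u) hwv
        simp only [Matrix.mulVec_mulVec, ← Units.val_mul, inv_mul_cancel, Units.val_one, Matrix.one_mulVec] at h4
        exact h4
      rw [← h3]; exact hw
  have hcC : c ∈ decompositionStabilizer D ⊓ SUg 3 F q := by
    refine ⟨⟨finRotate 3, fun i => ?_⟩, hcS⟩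
    rw [hD]
    show (F ∙ (((1 : GL (Fin 3) F) : Matrix (Fin 3) (Fin 3) F) *ᵥ Pi.single i 1)).map _ =
      (F ∙ (((1 : GL (Fin 3) F) : Matrix (Fin 3) (Fin 3) F) *ᵥ Pi.single (finRotate 3 i) 1))
    rw [Units.val_one, Matrix.one_mulVec, Matrix.one_mulVec, Submodule.map_span, Set.image_singleton,
      Matrix.toLin'_apply, hc, cyc_single, finRotate_apply]
  have hCirr : Irr (decompositionStabilizer D ⊓ SUg 3 F q) := irr_of_diag_cyc htC hcC hinj ht hc
  have hDirr : Irr (Subgroup.zpowers x) := fun W hW => hxirr W (hW x (Subgroup.mem_zpowers x))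
  have hxS' : Subgroup.zpowers x ≤ SUg 3 F q := Subgroup.zpowers_le.2 hxS
  have hgGU : ∀ g ∈ SUg 3 F q, g ∈ Cfsg.GU 3 F q := fun g hg => hg.1
  -- `x` is not conjugate into a proper subgroup
  have hconj : ∀ g ∈ SUg 3 F q, g * x * g⁻¹ ∈ SUg 3 F q ∧ orderOf (g * x * g⁻¹) = r ∧
      ∀ W : Submodule F (Fin 3 → F), (∀ w ∈ W, ((g * x * g⁻¹ : GL (Fin 3) F) : Matrix (Fin 3) (Fin 3) F) *ᵥ w ∈ W) →
        W = ⊥ ∨ W = ⊤ := by
    intro g hg
    refine ⟨Subgroup.mul_mem _ (Subgroup.mul_mem _ hg hxS) (Subgroup.inv_mem _ hg), ?_, fun W hW => ?_⟩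
    · rw [← hxr]
      exact orderOf_injective (MulAut.conj g).toMonoidHom (MulAut.conj g).injective x
    · rcases hxirr (pre g W) (fun w hw => by
        rw [mem_pre] at hw ⊢
        have h1 := hW _ hw
        rw [Matrix.mulVec_mulVec, ← Units.val_mul, inv_mul_cancel_right] at h1
        rwa [Matrix.mulVec_mulVec, ← Units.val_mul]) with h | h
      · exact Or.inl (pre_bot h)
      · exact Or.inr (pre_top h)
  refine sep_psu_five hF le_rfl (fun h => by omega) (A := subspaceStabilizer W₁ ⊓ SUg 3 F q)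
    (B := subspaceStabilizer W₂ ⊓ SUg 3 F q) (C := decompositionStabilizer D ⊓ SUg 3 F q) (D := Subgroup.zpowers x)
    (E := E) inf_le_right inf_le_right inf_le_right hxS' hE.1.le hA.1.ne hB.1.ne hC.1.ne ?_ hE.1.ne ?_ ?_ ?_ ?_ ?_ ?_
    ?_ ?_ ?_ ?_
  · -- `⟨x⟩` is not everything
    intro h
    have h1 : t ∈ Subgroup.zpowers x := h ▸ htS
    have h2 : c ∈ Subgroup.zpowers x := h ▸ hcS
    have h3 : t * c = c * t := by
      obtain ⟨i, rfl⟩ := h1
      obtain ⟨j, rfl⟩ := h2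
      exact (Commute.refl x).zpow_zpow i j
    have h4 := congrArg (fun g : GL (Fin 3) F => (g : Matrix (Fin 3) (Fin 3) F) *ᵥ Pi.single 0 1) h3
    simp only [Units.val_mul, ← Matrix.mulVec_mulVec] at h4
    rw [ht1, hc, Matrix.mulVec_smul, cyc_single, ht1] at h4
    have h5 := congrFun h4 (0 + 1)
    simp at h5
    exact hζ1 h5
  · exact apartIn_of_max hA fun g hg => exists_not_mem_of_diag hF htB hinj ht hW1 hW1s (hgGU g hg)
  · exact apartIn_of_max hA fun g hg => exists_not_mem_of_diag hF htC hinj ht hW1 hW1s (hgGU g hg)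
  · exact apartIn_of_max hA fun g hg => exists_not_mem_of_irr hDirr hW1 hW1' g
  · exact apartIn_of_max hA fun g hg => exists_not_mem_of_irr hEirr hW1 hW1' g
  · exact apartIn_of_max hB fun g hg => exists_not_mem_of_irr hCirr hW2 hW2' g
  · exact apartIn_of_max hB fun g hg => exists_not_mem_of_irr hDirr hW2 hW2' g
  · exact apartIn_of_max hB fun g hg => exists_not_mem_of_irr hEirr hW2 hW2' g
  · refine apartIn_of_max hC fun g hg => ⟨x, Subgroup.mem_zpowers x, fun h => ?_⟩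
    obtain ⟨-, h2, h3⟩ := hconj g hg
    exact not_mem_frame hDec.decomp hr (by omega) h2 h3 h.1
  · -- CE
    refine apartIn_of_max hC fun g hg => ?_
    by_contra hcon
    push Not at hcon
    apply hU6
    have h1 : U.map (MulAut.conj g).toMonoidHom ≤ decompositionStabilizer D := by
      rintro _ ⟨u, hu, rfl⟩
      exact (hcon u (hUE hu)).1
    have h2 := card_le_of_frame hDec.decomp hp h1 (by
      rintro _ ⟨u, hu, rfl⟩
      obtain ⟨k, hk⟩ := hUp u hu
      exact ⟨k, by rw [← map_pow, hk, map_one]⟩)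
    rwa [card_map_conj] at h2
  · -- DE
    refine (apartIn_of_max hE fun g hg => ⟨x, Subgroup.mem_zpowers x, fun h => ?_⟩).symm
    obtain ⟨h1, h2, h3⟩ := hconj g hg
    exact hEr r hr hr1 hr5 hrp _ h1 h2 h3 h

end main

/-! ### Odd `q` -/

section odd

variable [Fintype F] {q : ℕ}

theorem two_ne_zero_of_odd (hF : Fintype.card F = q ^ 2) (hq : Odd q) : (2 : F) ≠ 0 := by
  intro h
  have h3 : CharP F 2 := CharTwo.of_one_ne_zero_of_two_eq_zero one_ne_zero h
  obtain ⟨n, -, hn⟩ := FiniteField.card F 2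
  rw [hF] at hn
  have h4 : Odd (q ^ 2) := hq.pow
  rw [hn, Nat.odd_pow_iff n.ne_zero] at h4
  exact absurd h4 (by decide)

theorem exists_sign (hF : Fintype.card F = q ^ 2) (i : Fin 3) : ∃ g ∈ SUg 3 F q,
    (g : Matrix (Fin 3) (Fin 3) F) = Matrix.diagonal fun j => if j = i then 1 else -1 := by
  have hq := Mx.q_pos hF
  apply exists_SU_of hF
  · have h1 : (-1 : F) ^ q = -1 := by rw [neg_pow_q hF, one_pow]
    ext a b
    (revert i a b; simp only [ct, Matrix.mul_apply, Fin.sum_univ_three, Matrix.diagonal_apply, Matrix.one_apply, zero_pow hq.ne', h1, _root_.Fin.forall_fin_succ, _root_.ite_pow, _root_.one_pow, _root_.Matrix.of_apply, _root_.mul_ite, _root_.mul_one, _root_.mul_neg, _root_.MulZeroClass.mul_zero, _root_.Finset.sum_ite_eq', _root_.Finset.mem_univ, ↓reduceIte, Fin.isValue, _root_.Fin.succ_zero_eq_one, _root_.Fin.succ_one_eq_two, _root_.IsEmpty.forall_iff, _root_.and_true, _root_.one_ne_zero, _root_.neg_zero, _root_.ite_self,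 _root_.zero_ne_one, Fin.reduceEq, _root_.and_self, _root_.Fin.succ_ne_zero, _root_.true_and, _root_.neg_neg])
  · rw [Matrix.det_diagonal, Fin.prod_univ_three]
    fin_cases i <;> simp

theorem sep_odd (hF : Fintype.card F = q ^ 2) (hG : Geom F q) (hq : Odd q) (hq7 : 7 ≤ q) : Sep 5 (PSU 3 F q) := by
  obtain ⟨p, f, hp, hchar, hqp, hf⟩ := exists_prime_pow hF
  obtain ⟨F₀, hF₀⟩ := exists_subfield_card (F := F) (p := p) (n := f) (b := 2) hp hf.ne' (by rw [hF, hqp])
  have hc : Fintype.card F = Nat.card F₀ ^ 2 := by rw [hF₀, hF, hqp]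
  have h2 := two_ne_zero_of_odd hF hq
  have hE := hG.real hq hq7 F₀ 1 hc (formRational' hF)
  obtain ⟨U, hUE, hUc, hUp⟩ := exists_real_unip hF hq (p := p) hc
  obtain ⟨c, hcS, hcc⟩ := exists_cyc hF
  have hcE : c ∈ subfieldSubgroup F₀ 1 ⊓ SUg 3 F q := by
    refine ⟨mem_sub_of fun i j => ?_, hcS⟩
    rw [hcc]
    (revert i j; simp only [F₀.zero_mem, F₀.one_mem, _root_.Fin.forall_fin_succ, _root_.Matrix.of_apply, _root_.Matrix.cons_val', _root_.Matrix.cons_val_fin_one, Fin.isValue, _root_.Matrix.cons_val_zero, _root_.Matrix.cons_val_succ, _root_.forall_const, _root_.and_self, _root_.implies_true])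
  have hirr : Irr (subfieldSubgroup F₀ 1 ⊓ SUg 3 F q) := by
    refine irr_of_signs h2 hcE hcc fun i => ?_
    obtain ⟨s, hsS, hs⟩ := exists_sign hF i
    refine ⟨s, ⟨mem_sub_of fun a b => ?_, hsS⟩, hs⟩
    rw [hs, Matrix.diagonal_apply]
    split_ifs
    · exact F₀.one_mem
    · exact F₀.neg_mem F₀.one_mem
    · exact F₀.zero_mem
  refine sep_five_of hF hG (by omega) (by omega) hp hqp hE hirr hUE (fun x hx => ⟨1, by rw [pow_one]; exact hUp x hx⟩)
    ?_ ?_
  · rw [hUc]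
    intro h
    have := Nat.le_of_dvd (by norm_num) h
    omega
  · intro r hr _ hr5 _ x _ hx hirr hxE
    exact det_cube_ne hF hr (by omega) hx hirr (real_cube hF h2 hc (Subgroup.one_mem _) hxE.1 hxE.2)

end odd

/-! ### Even `q` -/

section even

open Cfsg.Agent.H930.GUSub

variable [Fintype F] {q : ℕ}

theorem map_coe {F₁ : Subfield F} (g : GL (Fin 3) F₁) :
    ((Matrix.GeneralLinearGroup.map (F₁.subtype : F₁ →+* F) g : GL (Fin 3) F) : Matrix (Fin 3) (Fin 3) F) =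
    (g : Matrix (Fin 3) (Fin 3) F₁).map F₁.subtype := rfl

theorem irr_sub {F₁ : Subfield F} [Fintype F₁] {q₁ : ℕ} (S : Setup F₁ q q₁) :
    Irr (subfieldSubgroup F₁ 1 ⊓ SUg 3 F q) := by
  have hq1 := two_le S.hF₀
  obtain ⟨ζ, hζ⟩ := exists_orderOf_eq S.hF₀
  have hζ0 : ζ ≠ 0 := by
    rintro rfl
    rw [orderOf_zero F₁] at hζ
    omega
  have hζq : ζ ^ (q₁ + 1) = 1 := by rw [← hζ]; exact pow_orderOf_eq_one ζ
  obtain ⟨t, htS, ht⟩ := exists_diag S.hF₀ (a := 1) (b := ζ) (c := ζ⁻¹) (one_pow _) hζq (by rw [inv_pow, hζq, inv_one])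
    (by rw [one_mul, mul_inv_cancel₀ hζ0])
  have hζ1 : ζ ≠ 1 := by
    intro h
    rw [h, orderOf_one] at hζ
    omega
  have hζ2 : ζ ≠ ζ⁻¹ := by
    intro h
    have h1 : ζ ^ 2 = 1 := by rw [sq]; nth_rewrite 2 [h]; exact mul_inv_cancel₀ hζ0
    have h2 := Nat.le_of_dvd (by norm_num) (orderOf_dvd_of_pow_eq_one h1)
    omega
  have hinj : Function.Injective ![(1 : F₁), ζ, ζ⁻¹] := by
    intro i j hij
    have h1 : (1 : F₁) ≠ ζ⁻¹ := fun h => hζ1 (by rw [← inv_inv ζ, ← h, inv_one])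
    fin_cases i <;> fin_cases j <;> simp at hij ⊢
    · exact hζ1 hij.symm
    · exact h1 (by rw [hij]; simp)
    · exact hζ1 hij
    · exact hζ2 hij
    · exact h1 (by rw [hij]; simp)
    · exact hζ2 hij.symm
  obtain ⟨c, hcS, hc⟩ := exists_cyc S.hF₀
  refine irr_of_diag_cyc (map_mem S htS) (map_mem S hcS)
    (δ := fun i => ((![(1 : F₁), ζ, ζ⁻¹] i : F₁) : F)) (fun i j h => hinj (Subtype.ext h)) ?_ ?_
  · rw [map_coe, ht, Matrix.diagonal_map (map_zero _)]
    rfl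
  · rw [map_coe, hc]
    ext i j
    (revert i j; simp only [_root_.Fin.forall_fin_succ, _root_.Subfield.coe_subtype, _root_.Matrix.map_apply, _root_.Matrix.of_apply, _root_.Matrix.cons_val', _root_.Matrix.cons_val_fin_one, Fin.isValue, _root_.Matrix.cons_val_zero, _root_.Matrix.cons_val_succ, _root_.forall_const, _root_.ZeroMemClass.coe_zero, _root_.OneMemClass.coe_one, _root_.and_self, _root_.implies_true])

theorem sep_even (hF : Fintype.card F = q ^ 2) (hG : Geom F q) (hq : ¬ Odd q) (hq4 : 4 ≤ q)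
    (hne : ¬ ∃ m : ℕ, 1 ≤ m ∧ q = 2 ^ (2 ^ m)) : Sep 5 (PSU 3 F q) := by
  obtain ⟨p, f, hp, hchar, hqp, hf⟩ := exists_prime_pow hF
  obtain rfl : p = 2 := by
    rw [Nat.not_odd_iff_even, even_iff_two_dvd, hqp] at hq
    exact ((Nat.prime_dvd_prime_iff_eq Nat.prime_two hp).1 (Nat.prime_two.dvd_of_dvd_pow hq)).symm
  obtain ⟨s, hs, ⟨k, hk⟩, hso⟩ : ∃ s : ℕ, s.Prime ∧ s ∣ f ∧ Odd s := by
    rcases Nat.eq_two_pow_or_exists_odd_prime_and_dvd f with ⟨m, hm⟩ | h
    · exfalso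
      apply hne
      refine ⟨m, ?_, by rw [hqp, hm]⟩
      rcases Nat.eq_zero_or_pos m with h0 | h0
      · rw [h0, pow_zero] at hm
        rw [hqp, hm] at hq4
        omega
      · exact h0
    · exact h
  have hk0 : k ≠ 0 := by
    rintro rfl
    omega
  have hs3 : 3 ≤ s := by
    have := hs.two_le
    rcases hso with ⟨j, rfl⟩
    omega
  have hkf : k < f := by
    rw [hk]
    nlinarith only [hf, hk, hs3]
  obtain ⟨F₁, hF₁⟩ := exists_subfield_card (F := F) (p := 2) (n := 2 * k) (b := s) Nat.prime_two (by omega)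
    (by rw [hF, hqp, hk, ← pow_mul, ← pow_mul]; ring_nf)
  have hcard : Fintype.card F = Nat.card F₁ ^ s := by
    rw [hF₁, hF, hqp, hk, ← pow_mul, ← pow_mul]; ring_nf
  have : Fintype F₁ := Fintype.ofFinite F₁
  obtain ⟨q₁, S⟩ := exists_setup (F₀ := F₁) hF hso hcard
  have hq1 : q₁ = 2 ^ k := by
    have h1 := S.hF₀
    rw [← Nat.card_eq_fintype_card, hF₁, mul_comm 2 k, pow_mul] at h1
    exact (Nat.pow_left_injective two_ne_zero h1).symm
  have hE := hG.sub F₁ s 1 hs hso hcard (formRational' hF)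
  have h8 : 2 ^ 3 ∣ Nat.card ↥(subfieldSubgroup F₁ 1 ⊓ SUg 3 F q : Subgroup (GL (Fin 3) F)) := by
    refine dvd_trans ?_ (card_dvd_sub S)
    refine Dvd.dvd.mul_right (Dvd.dvd.mul_right ?_ _) _
    rw [hq1]
    exact pow_dvd_pow_of_dvd (dvd_pow_self 2 hk0) 3
  have hfact : Fact (Nat.Prime 2) := ⟨Nat.prime_two⟩
  obtain ⟨U, hU⟩ := Sylow.exists_subgroup_card_pow_prime 2 h8
  have hUc : Nat.card (U.map (subfieldSubgroup F₁ 1 ⊓ SUg 3 F q).subtype) = 8 := by
    rw [Subgroup.card_map_of_injective (Subgroup.subtype_injective _), hU]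
    norm_num
  refine sep_five_of hF hG hq4 (by rintro rfl; exact hq ⟨2, by norm_num⟩) hp hqp hE (irr_sub S)
    (U := U.map (subfieldSubgroup F₁ 1 ⊓ SUg 3 F q).subtype) ?_ ?_ ?_ ?_
  · rintro _ ⟨u, -, rfl⟩
    exact u.2
  · intro x hx
    refine ⟨3, ?_⟩
    have h1 : orderOf (⟨x, hx⟩ : ↥(U.map (subfieldSubgroup F₁ 1 ⊓ SUg 3 F q).subtype)) ∣ 8 := by
      rw [← hUc]; exact orderOf_dvd_natCard _
    have h2 := orderOf_dvd_iff_pow_eq_one.1 h1
    exact congrArg Subtype.val h2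
  · rw [hUc]; decide
  · intro r hr hr1 hr5 hrp x hxS hx hirr hxE
    obtain ⟨q₂, -, hq2, hq2', hd⟩ := orderOf_cube_dvd hF hso hcard (formRational' hF) hxE.1 hxE.2
    have hq21 : q₂ = 2 ^ k := by
      rw [hF₁, mul_comm 2 k, pow_mul] at hq2'
      exact (Nat.pow_left_injective two_ne_zero hq2').symm
    have hcop : Nat.Coprime 3 r := by
      rw [Nat.coprime_comm]
      refine (Nat.Prime.coprime_iff_not_dvd hr).2 fun h3 => ?_
      have := Nat.le_of_dvd (by norm_num) h3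
      omega
    have ho : orderOf (x ^ 3) = r := by
      rw [Nat.Coprime.orderOf_pow, hx]
      rw [hx]; exact hcop.symm
    rw [ho, hq21] at hd
    rcases hr.dvd_mul.1 hd with h1 | h1
    · rcases hr.dvd_mul.1 h1 with h2 | h2
      · exact hrp (hr.dvd_of_dvd_pow (hr.dvd_of_dvd_pow h2))
      · rw [← pow_mul, hr1] at h2
        have := Nat.le_of_dvd (by omega) h2
        omega
    · have h2 : r ∣ 2 ^ (6 * k) - 1 := by
        have h3 : 2 ^ (6 * k) - 1 = ((2 ^ k) ^ 3 + 1) * (2 ^ (3 * k) - 1) := by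
          rw [← pow_mul, mul_comm k 3, Nat.mul_sub_one, add_mul, ← pow_add, show 3 * k + 3 * k = 6 * k by ring]
          have : 1 ≤ 2 ^ (3 * k) := Nat.one_le_pow _ _ (by norm_num)
          (clear * -; omega)
        rw [h3]
        exact h1.mul_right _
      rw [hr1] at h2
      have := Nat.le_of_dvd (by omega) h2
      omega

end even

end Cfsg.Agent.H950.MC
end

-- part: H950/MCCls
section
/-!
# Exactly four classes of maximal subgroups (helper950, for S5906, S5907)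
-/

set_option autoImplicit false
set_option linter.unusedSectionVars false

namespace Cfsg.Agent.H950.MC

open Cfsg Cfsg.Geo Matrix Cfsg.Agent.H918 Cfsg.Agent.LieClassical.HermBasic Cfsg.Agent.H907 Cfsg.Agent.H907.SU3
  Cfsg.Agent.H907.Mx Cfsg.Agent.H914 Cfsg.Agent.H940.MaxCls
open scoped MatrixGroups

/-! ### The general transfer -/

section general

variable {Γ : Type*} [Group Γ] {S A B : Subgroup Γ}

theorem conj_of_le (hA : IsMaximalIn S A) (hB : IsMaximalIn S B) {g : Γ} (hg : g ∈ S)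
    (h : ∀ x ∈ A, g * x * g⁻¹ ∈ B) : A.map (MulAut.conj g).toMonoidHom = B := by
  have h1 : A ≤ B.map (MulAut.conj g⁻¹).toMonoidHom := by
    intro a ha
    rw [mem_map_conj, inv_inv]
    exact h a ha
  have h2 : B.map (MulAut.conj g⁻¹).toMonoidHom ≤ S := by
    intro x hx
    rw [mem_map_conj, inv_inv] at hx
    have h3 := S.mul_mem (S.mul_mem (S.inv_mem hg) (hB.1.le hx)) hg
    have h4 : g⁻¹ * (g * x * g⁻¹) * g = x := by group
    rwa [h4] at h3
  have h5 : ∀ x, x ∈ B ↔ g⁻¹ * x * g ∈ B.map (MulAut.conj g⁻¹).toMonoidHom := by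
    intro x
    rw [mem_map_conj, inv_inv]
    have h4 : g * (g⁻¹ * x * g) * g⁻¹ = x := by group
    rw [h4]
  rcases hA.2 _ h1 h2 with h3 | h3
  · ext x
    rw [mem_map_conj, h5, h3]
  · exfalso
    apply hB.1.ne
    ext x
    rw [h5, h3]
    constructor
    · intro hx
      have h4 := S.mul_mem (S.mul_mem hg hx) (S.inv_mem hg)
      have h6 : g * (g⁻¹ * x * g) * g⁻¹ = x := by group
      rwa [h6] at h4
    · intro hx
      exact S.mul_mem (S.mul_mem (S.inv_mem hg) hx) hg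

theorem not_conj_of_apart (hA : IsMaximalIn S A) (h : ApartIn S A B) {g : Γ} (hg : g ∈ S) :
    A.map (MulAut.conj g).toMonoidHom ≠ B := by
  intro he
  refine hA.1.ne (h g⁻¹ (S.inv_mem hg) A hA.1.le le_rfl fun x hx => ?_)
  rw [← he, mem_map_conj] at hx
  rwa [inv_inv]

variable {G : Type*} [Group G] {f : G →* Γ} (hf : Function.Injective f) (hr : f.range = S)

include hf hr

theorem isCoatom_comap (hA : IsMaximalIn S A) : IsCoatom (A.comap f) := by
  refine ⟨comap_ne_top_of hf hr hA.1.ne hA.1.le, fun K hK => ?_⟩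
  have h1 : A ≤ K.map f := by
    intro a ha
    obtain ⟨x, rfl⟩ : a ∈ f.range := hr ▸ hA.1.le ha
    exact ⟨x, hK.le ha, rfl⟩
  have h2 : K.map f ≤ S := by rw [← hr]; exact Subgroup.map_le_range f K
  rcases hA.2 _ h1 h2 with h | h
  · exfalso
    apply hK.not_ge
    rw [← Subgroup.map_le_iff_le_comap, h]
  · apply Subgroup.map_injective hf
    rw [h, ← hr, MonoidHom.range_eq_map]

theorem isMaximalIn_map {K : Subgroup G} (hK : IsCoatom K) : IsMaximalIn S (K.map f) := by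
  refine ⟨lt_of_le_of_ne (by rw [← hr]; exact Subgroup.map_le_range f K) fun h => ?_, fun M h1 h2 => ?_⟩
  · apply hK.1
    apply Subgroup.map_injective hf
    rw [h, ← hr, MonoidHom.range_eq_map]
  · have h3 : K ≤ M.comap f := Subgroup.map_le_iff_le_comap.1 h1
    have h4 : (M.comap f).map f = M := by
      rw [Subgroup.map_comap_eq, hr, inf_eq_right.2 h2]
    rcases eq_or_lt_of_le h3 with h | h
    · left
      rw [← h4, ← h]
    · right
      rw [← h4, hK.2 _ h, ← hr, MonoidHom.range_eq_map]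

theorem cls_comap {n : ℕ} (M : Fin n → Subgroup Γ) (hM : ∀ i, IsMaximalIn S (M i))
    (hne : ∀ i j, i < j → ∀ g ∈ S, (M i).map (MulAut.conj g).toMonoidHom ≠ M j)
    (hall : ∀ K, IsMaximalIn S K → ∃ i, ∃ g ∈ S, ∀ x ∈ M i, g * x * g⁻¹ ∈ K) : Cls n G := by
  refine Cls.of_mem (fun i => (M i).comap f) (fun i => isCoatom_comap hf hr (hM i)) (fun i j hij g he => ?_)
    fun K hK => ?_
  · refine hne i j hij (f g) (hr ▸ ⟨g, rfl⟩) ?_
    have h1 := congrArg (Subgroup.map f) he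
    rw [← map_conj_map, Subgroup.map_comap_eq, Subgroup.map_comap_eq, hr, inf_eq_right.2 (hM i).1.le,
      inf_eq_right.2 (hM j).1.le] at h1
    exact h1
  · have hK' := isMaximalIn_map hf hr hK
    obtain ⟨i, g, hg, h⟩ := hall _ hK'
    obtain ⟨g, rfl⟩ : g ∈ f.range := hr ▸ hg
    refine ⟨i, g, ?_⟩
    have h1 := conj_of_le (hM i) hK' hg h
    apply Subgroup.map_injective hf
    rw [← map_conj_map, Subgroup.map_comap_eq, hr, inf_eq_right.2 (hM i).1.le, h1]

end general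

section su

variable {F : Type*} [Field F] [Fintype F] {n q : ℕ}

theorem cls_psu (hF : Fintype.card F = q ^ 2) (hn : 3 ≤ n) (h32 : ¬ (n = 3 ∧ q = 2)) {k : ℕ}
    (M : Fin k → Subgroup (Matrix.GeneralLinearGroup (Fin n) F)) (hM : ∀ i, IsMaximalIn (SUg n F q) (M i))
    (hne : ∀ i j, i < j → ∀ g ∈ SUg n F q, (M i).map (MulAut.conj g).toMonoidHom ≠ M j)
    (hall : ∀ K, IsMaximalIn (SUg n F q) K → ∃ i, ∃ g ∈ SUg n F q, ∀ x ∈ M i, g * x * g⁻¹ ∈ K) :
    Cls k (PSU n F q) := by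
  have h3 : Cls k (SU n F q) := cls_comap suHom_injective range_suHom M hM hne hall
  exact Cls.map_surj (f := QuotientGroup.mk' (Subgroup.center (SU n F q))) (QuotientGroup.mk'_surjective _)
    (by rw [QuotientGroup.ker_mk']) (Cfsg.Agent.LieClassical.HermPerfect.commutator_SU_eq_top hF hn h32) h3

/-- four classes -/
theorem cls_psu_four (hF : Fintype.card F = q ^ 2) (hn : 3 ≤ n) (h32 : ¬ (n = 3 ∧ q = 2))
    {A B C E : Subgroup (Matrix.GeneralLinearGroup (Fin n) F)}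
    (hA : IsMaximalIn (SUg n F q) A) (hB : IsMaximalIn (SUg n F q) B) (hC : IsMaximalIn (SUg n F q) C)
    (hE : IsMaximalIn (SUg n F q) E) (hAB : ApartIn (SUg n F q) A B) (hAC : ApartIn (SUg n F q) A C)
    (hAE : ApartIn (SUg n F q) A E) (hBC : ApartIn (SUg n F q) B C) (hBE : ApartIn (SUg n F q) B E)
    (hCE : ApartIn (SUg n F q) C E)
    (hall : ∀ K, IsMaximalIn (SUg n F q) K → (∃ g ∈ SUg n F q, ∀ x ∈ A, g * x * g⁻¹ ∈ K) ∨
      (∃ g ∈ SUg n F q, ∀ x ∈ B, g * x * g⁻¹ ∈ K) ∨ (∃ g ∈ SUg n F q, ∀ x ∈ C, g * x * g⁻¹ ∈ K) ∨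
      (∃ g ∈ SUg n F q, ∀ x ∈ E, g * x * g⁻¹ ∈ K)) : Cls 4 (PSU n F q) := by
  refine cls_psu hF hn h32 ![A, B, C, E] ?_ ?_ fun K hK => ?_
  · intro i
    fin_cases i
    exacts [hA, hB, hC, hE]
  · intro i j hij g hg
    fin_cases i <;> fin_cases j <;>
      first
      | exact absurd hij (by decide)
      | exact not_conj_of_apart hA hAB hg
      | exact not_conj_of_apart hA hAC hg
      | exact not_conj_of_apart hA hAE hg
      | exact not_conj_of_apart hB hBC hg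
      | exact not_conj_of_apart hB hBE hg
      | exact not_conj_of_apart hC hCE hg
  · rcases hall K hK with h | h | h | h
    exacts [⟨0, h⟩, ⟨1, h⟩, ⟨2, h⟩, ⟨3, h⟩]

end su

/-! ### Conjugacy of the stabilisers of points and frames -/

section conj

variable {F : Type*} [Field F] [Fintype F] {q : ℕ} (hF : Fintype.card F = q ^ 2)

theorem mem_stab_iff {W : Submodule F (Fin 3 → F)} {g : GL (Fin 3) F} : g ∈ subspaceStabilizer W ↔
    ∀ v, v ∈ W ↔ (g : Matrix (Fin 3) (Fin 3) F) *ᵥ v ∈ W := by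
  constructor
  · intro h v
    exact h v
  · intro h v
    exact h v

theorem stab_conj {W W' : Submodule F (Fin 3 → F)} {g : GL (Fin 3) F}
    (h : ∀ v, v ∈ W ↔ (g : Matrix (Fin 3) (Fin 3) F) *ᵥ v ∈ W') (hg : g ∈ SUg 3 F q) {x : GL (Fin 3) F}
    (hx : x ∈ subspaceStabilizer W ⊓ SUg 3 F q) : g * x * g⁻¹ ∈ subspaceStabilizer W' ⊓ SUg 3 F q := by
  refine ⟨mem_stab_iff.2 fun v => ?_, (SUg 3 F q).mul_mem ((SUg 3 F q).mul_mem hg hx.2) ((SUg 3 F q).inv_mem hg)⟩
  obtain ⟨w, hw⟩ : ∃ w, w = ((g⁻¹ : GL (Fin 3) F) : Matrix (Fin 3) (Fin 3) F) *ᵥ v := ⟨_, rfl⟩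
  have hv : v = (g : Matrix (Fin 3) (Fin 3) F) *ᵥ w := by
    rw [hw, Matrix.mulVec_mulVec, ← Units.val_mul, mul_inv_cancel, Units.val_one, Matrix.one_mulVec]
  have h1 : ((g * x * g⁻¹ : GL (Fin 3) F) : Matrix (Fin 3) (Fin 3) F) *ᵥ v =
      (g : Matrix (Fin 3) (Fin 3) F) *ᵥ ((x : Matrix (Fin 3) (Fin 3) F) *ᵥ w) := by
    rw [Units.val_mul, Units.val_mul, ← Matrix.mulVec_mulVec, ← Matrix.mulVec_mulVec, ← hw]
  rw [h1, ← h, hv, ← h]
  exact mem_stab_iff.1 hx.1 w

theorem span_map {u u' : Fin 3 → F} {g : GL (Fin 3) F} (h : (g : Matrix (Fin 3) (Fin 3) F) *ᵥ u = u') (v : Fin 3 → F) :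
    v ∈ F ∙ u ↔ (g : Matrix (Fin 3) (Fin 3) F) *ᵥ v ∈ F ∙ u' := by
  rw [Submodule.mem_span_singleton, Submodule.mem_span_singleton]
  constructor
  · rintro ⟨a, rfl⟩
    exact ⟨a, by rw [Matrix.mulVec_smul, h]⟩
  · rintro ⟨a, ha⟩
    refine ⟨a, ?_⟩
    rw [← h, ← Matrix.mulVec_smul] at ha
    have h1 := congrArg (fun w => ((g⁻¹ : GL (Fin 3) F) : Matrix (Fin 3) (Fin 3) F) *ᵥ w) ha
    simpa only [Matrix.mulVec_mulVec, ← Units.val_mul, inv_mul_cancel, Units.val_one, Matrix.one_mulVec] using h1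

include hF

theorem sing_span {W : Submodule F (Fin 3 → F)} (h0 : W ≠ ⊥) (hW : IsTotallySingularFor (hermForm 3 F q) W) :
    ∃ u : Fin 3 → F, u ≠ 0 ∧ hermForm 3 F q u u = 0 ∧ W = F ∙ u := by
  obtain ⟨u, hu, hu0⟩ := Submodule.exists_mem_ne_zero_of_ne_bot h0
  refine ⟨u, hu0, hW u hu u hu, ?_⟩
  have h1 := Cfsg.Agent.H957.Uni.two_mul_finrank_le hF hW
  symm
  apply Submodule.eq_of_le_of_finrank_le
  · rwa [Submodule.span_singleton_le_iff_mem]
  · rw [finrank_span_singleton hu0]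
    omega

theorem nons_span {W : Submodule F (Fin 3 → F)} (h0 : W ≠ ⊥) (hW : IsNondegenerateOn (hermForm 3 F q) W)
    (h1 : 2 * Module.finrank F W < 3) : ∃ u : Fin 3 → F, hermForm 3 F q u u = 1 ∧ W = F ∙ u := by
  obtain ⟨u, hu, hu0⟩ := Submodule.exists_mem_ne_zero_of_ne_bot h0
  have h2 : W = F ∙ u := by
    symm
    apply Submodule.eq_of_le_of_finrank_le
    · rwa [Submodule.span_singleton_le_iff_mem]
    · rw [finrank_span_singleton hu0]
      omega
  obtain ⟨⟨x, hx, hxu⟩, -⟩ := hW u hu hu0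
  rw [h2] at hx
  obtain ⟨a, rfl⟩ := Submodule.mem_span_singleton.1 hx
  have h3 : hermForm 3 F q u u ≠ 0 := by
    intro h
    apply hxu
    rw [herm_smul_left, h, mul_zero]
  obtain ⟨c, hc, hc1⟩ := exists_unit_smul hF h3
  exact ⟨c • u, hc1, by rw [h2, Submodule.span_singleton_smul_eq hc.isUnit]⟩

theorem exists_elt_of_act {u u' : Fin 3 → F} (h : ∃ g : SU 3 F q, Cfsg.Agent.LieClassical.HermSiegel.act g u = u') :
    ∃ g ∈ SUg 3 F q, (g : Matrix (Fin 3) (Fin 3) F) *ᵥ u = u' := by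
  obtain ⟨g, hg⟩ := h
  exact ⟨suHom 3 F q g, suHom_mem g, hg⟩

theorem conj_sing {W W' : Submodule F (Fin 3 → F)} (h0 : W ≠ ⊥) (hW : IsTotallySingularFor (hermForm 3 F q) W)
    (h0' : W' ≠ ⊥) (hW' : IsTotallySingularFor (hermForm 3 F q) W') :
    ∃ g ∈ SUg 3 F q, ∀ x ∈ subspaceStabilizer W ⊓ SUg 3 F q, g * x * g⁻¹ ∈ subspaceStabilizer W' ⊓ SUg 3 F q := by
  obtain ⟨u, hu0, hu, rfl⟩ := sing_span hF h0 hW
  obtain ⟨u', hu0', hu', rfl⟩ := sing_span hF h0' hW'
  obtain ⟨g, hg, hgu⟩ := exists_elt_of_act hF (by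
    obtain ⟨g, -, hg⟩ := Cfsg.Agent.LieClassical.HermGen.exists_map_iso hF le_rfl le_rfl
      (Cfsg.Agent.LieClassical.HermGen.mem_coordSub_top u) (Cfsg.Agent.LieClassical.HermGen.mem_coordSub_top u')
      hu0 hu0' hu hu'
    exact ⟨g, hg⟩)
  exact ⟨g, hg, fun x hx => stab_conj (span_map hgu) hg hx⟩

theorem conj_nons (hq : q ≠ 2) {W W' : Submodule F (Fin 3 → F)} (h0 : W ≠ ⊥)
    (hW : IsNondegenerateOn (hermForm 3 F q) W) (h1 : 2 * Module.finrank F W < 3) (h0' : W' ≠ ⊥)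
    (hW' : IsNondegenerateOn (hermForm 3 F q) W') (h1' : 2 * Module.finrank F W' < 3) :
    ∃ g ∈ SUg 3 F q, ∀ x ∈ subspaceStabilizer W ⊓ SUg 3 F q, g * x * g⁻¹ ∈ subspaceStabilizer W' ⊓ SUg 3 F q := by
  obtain ⟨u, hu, rfl⟩ := nons_span hF h0 hW h1
  obtain ⟨u', hu', rfl⟩ := nons_span hF h0' hW' h1'
  obtain ⟨g, hg, hgu⟩ := exists_elt_of_act hF (Cfsg.Agent.H930.ExtU.exists_SU_norm hF (by norm_num)
    (fun h => hq h.2) (z := u) (z' := u') (by rw [hu, hu']) (by rw [hu]; exact one_ne_zero))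
  exact ⟨g, hg, fun x hx => stab_conj (span_map hgu) hg hx⟩

/-- diagonal matrices in the unitary group -/
theorem exists_diag_GU {w : F} (hw : w ^ (q + 1) = 1) :
    ∃ g ∈ Cfsg.GU 3 F q, (g : Matrix (Fin 3) (Fin 3) F) = Matrix.diagonal ![w, 1, 1] := by
  have hq := Mx.q_pos hF
  have hw5 : w ^ q * w = 1 := by rw [← pow_succ, hw]
  have h : ct q (Matrix.diagonal ![w, 1, 1]) * Matrix.diagonal ![w, 1, 1] = 1 := by
    ext i j
    (revert i j; simp only [ct, Matrix.mul_apply, Matrix.diagonal_apply, zero_pow hq.ne', hw5, _root_.Fin.forall_fin_succ, _root_.Nat.succ_eq_add_one, Nat.reduceAdd, _root_.ite_pow, _root_.Matrix.of_apply, _root_.mul_ite, _root_.ite_mul, _root_.MulZeroClass.zero_mul, _root_.MulZeroClass.mul_zero, _root_.Finset.sum_ite_eq', _root_.Finset.mem_univ, ↓reduceIte, Fin.isValue, _root_.Matrix.cons_val_zero, _root_.Matrix.cons_val_succ, _root_.Fin.succ_zero_eq_one, _root_.one_pow, _root_.mul_one, _root_.Matrix.cons_val_fin_one,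 _root_.Fin.succ_one_eq_two, _root_.IsEmpty.forall_iff, _root_.and_true, _root_.Matrix.one_apply_eq, _root_.one_ne_zero, _root_.ne_eq, _root_.zero_ne_one, _root_.not_false_eq_true, _root_.Matrix.one_apply_ne, Fin.reduceEq, _root_.and_self, _root_.Fin.succ_ne_zero, _root_.ite_eq_right_iff, _root_.imp_false])
  have h' := mul_eq_one_comm.1 h
  exact ⟨⟨_, _, h', h⟩, (mem_GU_iff_ct hF).2 h, rfl⟩

theorem det_pow {P : GL (Fin 3) F} (hP : P ∈ Cfsg.GU 3 F q) : (P : Matrix (Fin 3) (Fin 3) F).det ^ (q + 1) = 1 := by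
  have h1 := congrArg Matrix.det ((mem_GU_iff_ct hF).1 hP)
  have h2 : (ct q (P : Matrix (Fin 3) (Fin 3) F)).det = (P : Matrix (Fin 3) (Fin 3) F).det ^ q := by
    rw [Matrix.det_fin_three, Matrix.det_fin_three]
    simp only [ct, Matrix.of_apply]
    have h5 : ∀ x y : F, (x - y) ^ q = x ^ q - y ^ q := sub_pow_q hF
    have h6 : ∀ x y : F, (x + y) ^ q = x ^ q + y ^ q := add_pow_q hF
    rw [h5, h6, h6, h5, h5]
    ring
  rw [Matrix.det_mul, Matrix.det_one, h2, ← pow_succ] at h1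
  exact h1

/-- the frame can be taken in the special unitary group -/
theorem exists_frame_SU {D : Fin 3 → Submodule F (Fin 3 → F)} (hD : IsNondegenerateMDecomposition (hermForm 3 F q) 1 D) :
    ∃ P ∈ SUg 3 F q, ∀ i, D i = F ∙ ((P : Matrix (Fin 3) (Fin 3) F) *ᵥ Pi.single i 1) := by
  obtain ⟨P, hP, hPD⟩ := exists_frame hF hD
  have hd := det_pow hF hP
  have hd0 : (P : Matrix (Fin 3) (Fin 3) F).det ≠ 0 := by
    intro h
    rw [h, zero_pow (by omega)] at hd
    exact zero_ne_one hd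
  obtain ⟨t, ht, htd⟩ := exists_diag_GU hF (w := ((P : Matrix (Fin 3) (Fin 3) F).det)⁻¹) (by rw [inv_pow, hd, inv_one])
  refine ⟨P * t, ⟨mul_mem hP ht, mem_specialLinear.2 ?_⟩, fun i => ?_⟩
  · rw [Units.val_mul, Matrix.det_mul, htd, Matrix.det_diagonal, Fin.prod_univ_three]
    simp [hd0]
  · rw [hPD i, Units.val_mul, ← Matrix.mulVec_mulVec]
    have h1 : (t : Matrix (Fin 3) (Fin 3) F) *ᵥ Pi.single i 1 =
        (![((P : Matrix (Fin 3) (Fin 3) F).det)⁻¹, 1, 1] i) • Pi.single i 1 := by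
      rw [htd]
      ext j
      rw [Matrix.mulVec_diagonal, Pi.smul_apply, smul_eq_mul]
      by_cases h : j = i
      · subst h; rfl
      · rw [Pi.single_eq_of_ne h, mul_zero, mul_zero]
    rw [h1, Matrix.mulVec_smul, Submodule.span_singleton_smul_eq]
    have : (![((P : Matrix (Fin 3) (Fin 3) F).det)⁻¹, 1, 1] i) ≠ 0 := by
      (revert i; simp only [hd0, _root_.Fin.forall_fin_succ, _root_.Matrix.mulVec_single, _root_.MulOpposite.op_one, _root_.one_smul, _root_.Nat.succ_eq_add_one, Nat.reduceAdd, _root_.ne_eq, Fin.isValue, _root_.Matrix.cons_val_zero, _root_.inv_eq_zero, _root_.not_false_eq_true, _root_.implies_true, _root_.Matrix.cons_val_succ, _root_.Fin.succ_zero_eq_one, _root_.one_ne_zero, _root_.Matrix.cons_val_fin_one, _root_.and_self])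
    exact this.isUnit

theorem conj_frame {D D' : Fin 3 → Submodule F (Fin 3 → F)}
    (hD : IsNondegenerateMDecomposition (hermForm 3 F q) 1 D) (hD' : IsNondegenerateMDecomposition (hermForm 3 F q) 1 D') :
    ∃ g ∈ SUg 3 F q, ∀ x ∈ decompositionStabilizer D ⊓ SUg 3 F q,
      g * x * g⁻¹ ∈ decompositionStabilizer D' ⊓ SUg 3 F q := by
  obtain ⟨P, hP, hPD⟩ := exists_frame_SU hF hD
  obtain ⟨P', hP', hPD'⟩ := exists_frame_SU hF hD'
  obtain ⟨g, hg⟩ : ∃ g, g = P' * P⁻¹ := ⟨_, rfl⟩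
  have hgS : g ∈ SUg 3 F q := by rw [hg]; exact (SUg 3 F q).mul_mem hP' ((SUg 3 F q).inv_mem hP)
  have h1 : ∀ i, (D i).map (Matrix.toLin' (g : Matrix (Fin 3) (Fin 3) F)) = D' i := by
    intro i
    rw [hPD, hPD', Submodule.map_span, Set.image_singleton, Matrix.toLin'_apply, Matrix.mulVec_mulVec, ← Units.val_mul,
      hg, inv_mul_cancel_right]
  refine ⟨g, hgS, fun x hx => ⟨?_, (SUg 3 F q).mul_mem ((SUg 3 F q).mul_mem hgS hx.2) ((SUg 3 F q).inv_mem hgS)⟩⟩
  obtain ⟨σ, hσ⟩ := hx.1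
  refine ⟨σ, fun i => ?_⟩
  have h2 : (D' (σ i)) = ((D i).map (Matrix.toLin' (x : Matrix (Fin 3) (Fin 3) F))).map
      (Matrix.toLin' (g : Matrix (Fin 3) (Fin 3) F)) := by
    rw [← h1]
    congr 1
    exact (hσ i).symm
  have h3 : (D' i).map (Matrix.toLin' ((g * x * g⁻¹ : GL (Fin 3) F) : Matrix (Fin 3) (Fin 3) F)) = D' (σ i) := by
    rw [h2, ← h1, ← Submodule.map_comp, ← Submodule.map_comp, ← Matrix.toLin'_mul, ← Matrix.toLin'_mul, ← Units.val_mul,
      ← Units.val_mul, inv_mul_cancel_right]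
  exact h3

end conj

/-! ### The assembly -/

section main

variable {F : Type*} [Field F] [Fintype F] {q : ℕ} (hF : Fintype.card F = q ^ 2)
include hF

/-- Four classes: the stabilisers of singular points, of nonsingular points, of frames, and `E`. -/
theorem cls_four_of (hG : Geom F q) (hq3 : 3 ≤ q) (hq5 : q ≠ 5) {r : ℕ} (hr : r.Prime) (hr3 : 3 < r) {x : GL (Fin 3) F}
    (hxS : x ∈ SUg 3 F q) (hxr : orderOf x = r)
    (hxirr : ∀ W : Submodule F (Fin 3 → F), (∀ w ∈ W, (x : Matrix (Fin 3) (Fin 3) F) *ᵥ w ∈ W) → W = ⊥ ∨ W = ⊤)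
    {E : Subgroup (GL (Fin 3) F)} (hE : IsMaximalIn (SUg 3 F q) E) (hxE : x ∈ E)
    (hlist : ∀ H, IsMaximalIn (SUg 3 F q) H →
      (∃ W : Submodule F (Fin 3 → F), W ≠ ⊥ ∧ IsTotallySingularFor (hermForm 3 F q) W ∧
        H = subspaceStabilizer W ⊓ SUg 3 F q) ∨
      (∃ W : Submodule F (Fin 3 → F), W ≠ ⊥ ∧ IsNondegenerateOn (hermForm 3 F q) W ∧ 2 * Module.finrank F W < 3 ∧
        H = subspaceStabilizer W ⊓ SUg 3 F q) ∨
      (∃ D : Fin 3 → Submodule F (Fin 3 → F), IsNondegenerateMDecomposition (hermForm 3 F q) 1 D ∧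
        H = decompositionStabilizer D ⊓ SUg 3 F q) ∨
      (∃ g ∈ SUg 3 F q, ∀ y ∈ E, g * y * g⁻¹ ∈ H)) : Cls 4 (PSU 3 F q) := by
  obtain ⟨W₁, hW1, hW1', hW1s⟩ := exists_sing hF
  have hDec := frame_decomp hF (Subgroup.one_mem (Cfsg.GU 3 F q))
  obtain ⟨D, hD⟩ : ∃ D : Fin 3 → Submodule F (Fin 3 → F), D = fun i => F ∙ (((1 : GL (Fin 3) F) :
    Matrix (Fin 3) (Fin 3) F) *ᵥ Pi.single i 1) := ⟨_, rfl⟩
  rw [← hD] at hDec
  obtain ⟨W₂, hW2d⟩ : ∃ W₂, W₂ = D 0 := ⟨_, rfl⟩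
  have hW2r : Module.finrank F W₂ = 1 := by rw [hW2d]; exact hDec.decomp.finrank_eq 0
  have hW2 : W₂ ≠ ⊥ := by
    rintro rfl
    rw [finrank_bot] at hW2r
    exact zero_ne_one hW2r
  have hW2' : W₂ ≠ ⊤ := by
    rintro rfl
    rw [finrank_top] at hW2r
    simp at hW2r
  have hW2s : IsNondegenerateOn (hermForm 3 F q) W₂ := by rw [hW2d]; exact hDec.nondegenerate 0
  have hW2f : 2 * Module.finrank F W₂ < 3 := by omega
  have hA := hG.sing W₁ hW1 hW1s
  have hB := hG.nons W₂ hW2 hW2s hW2f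
  have hC := hG.frame hq5 D hDec
  -- elements of the torus
  obtain ⟨ζ, hζ⟩ := exists_orderOf_eq hF
  have hζ0 : ζ ≠ 0 := by
    rintro rfl
    rw [orderOf_zero F] at hζ
    omega
  have hζq : ζ ^ (q + 1) = 1 := by rw [← hζ]; exact pow_orderOf_eq_one ζ
  obtain ⟨t, htS, ht⟩ := exists_diag hF (a := 1) (b := ζ) (c := ζ⁻¹) (one_pow _) hζq (by rw [inv_pow, hζq, inv_one])
    (by rw [one_mul, mul_inv_cancel₀ hζ0])
  have hζ1 : ζ ≠ 1 := by
    intro h
    rw [h, orderOf_one] at hζ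
    omega
  have hζ2 : ζ ≠ ζ⁻¹ := by
    intro h
    have h1 : ζ ^ 2 = 1 := by rw [sq]; nth_rewrite 2 [h]; exact mul_inv_cancel₀ hζ0
    have h2 := Nat.le_of_dvd (by norm_num) (orderOf_dvd_of_pow_eq_one h1)
    omega
  have hinj : Function.Injective ![(1 : F), ζ, ζ⁻¹] := by
    intro i j hij
    have h1 : (1 : F) ≠ ζ⁻¹ := fun h => hζ1 (by rw [← inv_inv ζ, ← h, inv_one])
    fin_cases i <;> fin_cases j <;> simp at hij ⊢
    · exact hζ1 hij.symm
    · exact h1 (by rw [hij]; simp)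
    · exact hζ1 hij
    · exact hζ2 hij
    · exact h1 (by rw [hij]; simp)
    · exact hζ2 hij.symm
  obtain ⟨c, hcS, hc⟩ := exists_cyc hF
  -- diagonal and cyclic matrices in the groups
  have ht1 : ∀ i, (t : Matrix (Fin 3) (Fin 3) F) *ᵥ Pi.single i 1 = (![(1 : F), ζ, ζ⁻¹] i) • Pi.single i 1 := by
    intro i
    rw [ht]
    ext j
    rw [Matrix.mulVec_diagonal, Pi.smul_apply, smul_eq_mul]
    by_cases h : j = i
    · subst h; rfl
    · rw [Pi.single_eq_of_ne h, mul_zero, mul_zero]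
  have htD : ∀ i, (D i).map (Matrix.toLin' (t : Matrix (Fin 3) (Fin 3) F)) = D ((1 : Equiv.Perm (Fin 3)) i) := by
    intro i
    rw [hD, Equiv.Perm.one_apply]
    show (F ∙ (((1 : GL (Fin 3) F) : Matrix (Fin 3) (Fin 3) F) *ᵥ Pi.single i 1)).map _ =
      (F ∙ (((1 : GL (Fin 3) F) : Matrix (Fin 3) (Fin 3) F) *ᵥ Pi.single i 1))
    rw [Units.val_one, Matrix.one_mulVec, Submodule.map_span, Set.image_singleton, Matrix.toLin'_apply, ht1]
    apply Submodule.span_singleton_smul_eq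
    have : (![(1 : F), ζ, ζ⁻¹] i) ≠ 0 := by
      (revert i; simp only [hζ0, _root_.Fin.forall_fin_succ, _root_.Nat.succ_eq_add_one, Nat.reduceAdd, _root_.ne_eq, Fin.isValue, _root_.Matrix.cons_val_zero, _root_.one_ne_zero, _root_.not_false_eq_true, _root_.Matrix.cons_val_succ, _root_.Matrix.cons_val_fin_one, _root_.inv_eq_zero, _root_.implies_true, _root_.and_self])
    exact this.isUnit
  have htC : t ∈ decompositionStabilizer D ⊓ SUg 3 F q := ⟨⟨1, htD⟩, htS⟩
  have htB : t ∈ subspaceStabilizer W₂ ⊓ SUg 3 F q := by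
    refine ⟨fun v => ?_, htS⟩
    have h1 := htD 0
    rw [Equiv.Perm.one_apply, ← hW2d] at h1
    constructor
    · intro hv
      have : (Matrix.toLin' (t : Matrix (Fin 3) (Fin 3) F)) v ∈ W₂.map (Matrix.toLin' (t : Matrix (Fin 3) (Fin 3) F)) :=
        ⟨v, hv, rfl⟩
      rw [h1, Matrix.toLin'_apply] at this
      exact this
    · intro hv
      have h2 : (t : Matrix (Fin 3) (Fin 3) F) *ᵥ v ∈ W₂.map (Matrix.toLin' (t : Matrix (Fin 3) (Fin 3) F)) := by
        rw [h1]; exact hv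
      obtain ⟨w, hw, hwv⟩ := h2
      rw [Matrix.toLin'_apply] at hwv
      have h3 : w = v := by
        have h4 := congrArg (fun u => ((t⁻¹ : GL (Fin 3) F) : Matrix (Fin 3) (Fin 3) F) *ᵥ u) hwv
        simp only [Matrix.mulVec_mulVec, ← Units.val_mul, inv_mul_cancel, Units.val_one, Matrix.one_mulVec] at h4
        exact h4
      rw [← h3]; exact hw
  have hcC : c ∈ decompositionStabilizer D ⊓ SUg 3 F q := by
    refine ⟨⟨finRotate 3, fun i => ?_⟩, hcS⟩
    rw [hD]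
    show (F ∙ (((1 : GL (Fin 3) F) : Matrix (Fin 3) (Fin 3) F) *ᵥ Pi.single i 1)).map _ =
      (F ∙ (((1 : GL (Fin 3) F) : Matrix (Fin 3) (Fin 3) F) *ᵥ Pi.single (finRotate 3 i) 1))
    rw [Units.val_one, Matrix.one_mulVec, Matrix.one_mulVec, Submodule.map_span, Set.image_singleton,
      Matrix.toLin'_apply, hc, cyc_single, finRotate_apply]
  have hCirr : Irr (decompositionStabilizer D ⊓ SUg 3 F q) := irr_of_diag_cyc htC hcC hinj ht hc
  have hEirr : Irr E := fun W hW => hxirr W (hW x hxE)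
  have hgGU : ∀ g ∈ SUg 3 F q, g ∈ Cfsg.GU 3 F q := fun g hg => hg.1
  -- `x` is not conjugate into a proper subgroup
  have hconj : ∀ g ∈ SUg 3 F q, g * x * g⁻¹ ∈ SUg 3 F q ∧ orderOf (g * x * g⁻¹) = r ∧
      ∀ W : Submodule F (Fin 3 → F), (∀ w ∈ W, ((g * x * g⁻¹ : GL (Fin 3) F) : Matrix (Fin 3) (Fin 3) F) *ᵥ w ∈ W) →
        W = ⊥ ∨ W = ⊤ := by
    intro g hg
    refine ⟨Subgroup.mul_mem _ (Subgroup.mul_mem _ hg hxS) (Subgroup.inv_mem _ hg), ?_, fun W hW => ?_⟩
    · rw [← hxr]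
      exact orderOf_injective (MulAut.conj g).toMonoidHom (MulAut.conj g).injective x
    · rcases hxirr (pre g W) (fun w hw => by
        rw [mem_pre] at hw ⊢
        have h1 := hW _ hw
        rw [Matrix.mulVec_mulVec, ← Units.val_mul, inv_mul_cancel_right] at h1
        rwa [Matrix.mulVec_mulVec, ← Units.val_mul]) with h | h
      · exact Or.inl (pre_bot h)
      · exact Or.inr (pre_top h)
  refine cls_psu_four hF le_rfl (fun h => by omega) (A := subspaceStabilizer W₁ ⊓ SUg 3 F q)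
    (B := subspaceStabilizer W₂ ⊓ SUg 3 F q) (C := decompositionStabilizer D ⊓ SUg 3 F q) (E := E) hA hB hC hE
    ?_ ?_ ?_ ?_ ?_ ?_ ?_
  · exact apartIn_of_max hA fun g hg => exists_not_mem_of_diag hF htB hinj ht hW1 hW1s (hgGU g hg)
  · exact apartIn_of_max hA fun g hg => exists_not_mem_of_diag hF htC hinj ht hW1 hW1s (hgGU g hg)
  · exact apartIn_of_max hA fun g hg => exists_not_mem_of_irr hEirr hW1 hW1' g
  · exact apartIn_of_max hB fun g hg => exists_not_mem_of_irr hCirr hW2 hW2' g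
  · exact apartIn_of_max hB fun g hg => exists_not_mem_of_irr hEirr hW2 hW2' g
  · refine apartIn_of_max hC fun g hg => ⟨x, hxE, fun h => ?_⟩
    obtain ⟨-, h2, h3⟩ := hconj g hg
    exact not_mem_frame hDec.decomp hr hr3 h2 h3 h.1
  · intro K hK
    rcases hlist K hK with ⟨W, h0, hW, rfl⟩ | ⟨W, h0, hW, h1, rfl⟩ | ⟨D', hD', rfl⟩ | h
    · exact Or.inl (conj_sing hF hW1 hW1s h0 hW)
    · exact Or.inr (Or.inl (conj_nons hF (by omega) hW2 hW2s hW2f h0 hW h1))
    · exact Or.inr (Or.inr (Or.inl (conj_frame hF hDec hD')))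
    · exact Or.inr (Or.inr (Or.inr h))

end main

end Cfsg.Agent.H950.MC
end

-- part: H950/MCCubic
section
/-!
# The adjoint-closed cubic fields: existence and conjugacy (helper950, for S5906, S5907)
-/

set_option autoImplicit false
set_option linter.unusedSectionVars false

namespace Cfsg.Agent.H950.MC

open Cfsg Cfsg.Geo Matrix Cfsg.Agent.H918 Cfsg.Agent.LieClassical.HermBasic Cfsg.Agent.H907 Cfsg.Agent.H907.SU3
  Cfsg.Agent.H907.Mx Cfsg.Agent.H914 Cfsg.Agent.H940.MaxCls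
open scoped MatrixGroups

variable {F : Type*} [Field F]

theorem mem_subalgebraNormalizer_iff {K : Subalgebra F (Matrix (Fin 3) (Fin 3) F)} {g : GL (Fin 3) F} :
    g ∈ subalgebraNormalizer K ↔ ∀ k : Matrix (Fin 3) (Fin 3) F, k ∈ K ↔
      (g : Matrix (Fin 3) (Fin 3) F) * k * ((g⁻¹ : GL (Fin 3) F) : Matrix (Fin 3) (Fin 3) F) ∈ K := Iff.rfl

section field

variable [Fintype F] {q : ℕ} (hF : Fintype.card F = q ^ 2)
include hF

/-- the field generated by an irreducible element of the special unitary group -/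
theorem exists_field {x : GL (Fin 3) F} (hxS : x ∈ SUg 3 F q)
    (hxirr : ∀ W : Submodule F (Fin 3 → F), (∀ w ∈ W, (x : Matrix (Fin 3) (Fin 3) F) *ᵥ w ∈ W) → W = ⊥ ∨ W = ⊤) :
    ∃ K : Subalgebra F (Matrix (Fin 3) (Fin 3) F), IsFieldSubalgebra 3 K ∧ IsAdjointClosedFor (hermForm 3 F q) K ∧
      (x : Matrix (Fin 3) (Fin 3) F) ∈ K := by
  have hirr : ActsIrreducibly (matrixSet (Subgroup.zpowers x)) := by
    rw [irr_iff]
    intro W hW
    exact hxirr W (hW x (Subgroup.mem_zpowers x))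
  have hcomm : ∀ a ∈ Subgroup.zpowers x, ∀ b ∈ Subgroup.zpowers x, a * b = b * a := by
    rintro _ ⟨i, rfl⟩ _ ⟨j, rfl⟩
    exact (Commute.refl x).zpow_zpow i j
  refine ⟨_, isField_adjoin Nat.prime_three (Fintype.card_fin 3) hirr hcomm, ?_,
    Algebra.subset_adjoin (mem_matrixSet (Subgroup.mem_zpowers x))⟩
  intro k hk
  refine ⟨ct q k, ?_, fun u v => herm_ct hF k u v⟩
  have hle : Subgroup.zpowers x ≤ SUg 3 F q := Subgroup.zpowers_le.2 hxS
  induction hk using Algebra.adjoin_induction with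
  | mem k hk =>
    obtain ⟨y, hy, rfl⟩ := hk
    have h1 := (mem_GU_iff_ct hF).1 (hle hy).1
    have h2 : ct q (y : Matrix (Fin 3) (Fin 3) F) = ((y⁻¹ : GL (Fin 3) F) : Matrix (Fin 3) (Fin 3) F) := by
      calc ct q (y : Matrix (Fin 3) (Fin 3) F) = ct q (y : Matrix (Fin 3) (Fin 3) F) *
            ((y : Matrix (Fin 3) (Fin 3) F) * ((y⁻¹ : GL (Fin 3) F) : Matrix (Fin 3) (Fin 3) F)) := by
            rw [← Units.val_mul, mul_inv_cancel, Units.val_one, mul_one]
        _ = _ := by rw [← mul_assoc, h1, one_mul]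
    simp only
    rw [h2]
    exact Algebra.subset_adjoin (mem_matrixSet ((Subgroup.zpowers x).inv_mem hy))
  | algebraMap c =>
    rw [Algebra.algebraMap_eq_smul_one, ct_smul_one hF]
    exact Subalgebra.smul_mem _ (Subalgebra.one_mem _) _
  | add a b _ _ h1 h2 => rw [ct_add hF]; exact Subalgebra.add_mem _ h1 h2
  | mul a b _ _ h1 h2 => rw [ct_mul hF]; exact Subalgebra.mul_mem _ h2 h1

theorem mem_normalizer_of_mem {K : Subalgebra F (Matrix (Fin 3) (Fin 3) F)} (hK : IsFieldSubalgebra 3 K)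
    {x : GL (Fin 3) F} (hx : (x : Matrix (Fin 3) (Fin 3) F) ∈ K) : x ∈ subalgebraNormalizer K := by
  have h1 : ((x⁻¹ : GL (Fin 3) F) : Matrix (Fin 3) (Fin 3) F) ∈ K :=
    (KU hK).inv_mem (x := x) hx
  rw [mem_subalgebraNormalizer_iff]
  intro k
  constructor
  · intro hk
    exact K.mul_mem (K.mul_mem hx hk) h1
  · intro hk
    have h2 := K.mul_mem (K.mul_mem h1 hk) hx
    have h3 : ((x⁻¹ : GL (Fin 3) F) : Matrix (Fin 3) (Fin 3) F) * ((x : Matrix (Fin 3) (Fin 3) F) * k *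
        ((x⁻¹ : GL (Fin 3) F) : Matrix (Fin 3) (Fin 3) F)) * (x : Matrix (Fin 3) (Fin 3) F) =
        (((x⁻¹ : GL (Fin 3) F) : Matrix (Fin 3) (Fin 3) F) * (x : Matrix (Fin 3) (Fin 3) F)) * k *
        (((x⁻¹ : GL (Fin 3) F) : Matrix (Fin 3) (Fin 3) F) * (x : Matrix (Fin 3) (Fin 3) F)) := by
      simp only [mul_assoc]
    rw [h3, ← Units.val_mul, inv_mul_cancel, Units.val_one, one_mul, mul_one] at h2
    exact h2

/-- elements of given order -/
theorem exists_orderOf_mem {K : Subalgebra F (Matrix (Fin 3) (Fin 3) F)} (hK : IsFieldSubalgebra 3 K)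
    (hadj : IsAdjointClosedFor (hermForm 3 F q) K) {m : ℕ} (hm : m ∣ q ^ 2 - q + 1) :
    ∃ g : GL (Fin 3) F, (g : Matrix (Fin 3) (Fin 3) F) ∈ K ∧ g ∈ SUg 3 F q ∧ orderOf g = m := by
  have hq := two_le hF
  have hqq : q ≤ q ^ 2 := by nlinarith only []
  have hq1 : 2 ^ 2 ≤ q ^ 2 := Nat.pow_le_pow_left hq 2
  have hfin : Finite (KU hK) := inferInstance
  have hcyc : IsCyclic (KU hK) := isCyclic_KU hK
  obtain ⟨γ, hγ⟩ := IsCyclic.exists_ofOrder_eq_natCard (α := KU hK)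
  have hc3 : q ^ 2 - q + 1 ∣ q ^ 3 + 1 := ⟨q + 1, by zify [hqq]; ring⟩
  have hcard : Nat.card (KU hK) = (q ^ 3 + 1) * (q ^ 3 - 1) := by
    rw [card_KU hK, hF]
    have : (q ^ 2) ^ 3 = (q ^ 3) ^ 2 := by ring
    rw [this]
    have := Nat.sq_sub_sq (q ^ 3) 1
    simpa only [_root_.one_pow] using this
  have hmc : m ∣ Nat.card (KU hK) := (hm.trans hc3).trans (by rw [hcard]; exact dvd_mul_right _ _)
  obtain ⟨d, hd⟩ := hmc
  have hpos : 0 < Nat.card (KU hK) := Nat.card_pos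
  have hd0 : 0 < d := by
    rcases Nat.eq_zero_or_pos d with h | h
    · rw [h, mul_zero] at hd
      omega
    · exact h
  have hord : orderOf ((γ : GL (Fin 3) F) ^ d) = m := by
    have h1 : orderOf (γ : GL (Fin 3) F) = m * d := by
      rw [Subgroup.orderOf_coe, hγ, hd]
    rw [orderOf_pow' _ hd0.ne', h1, Nat.gcd_eq_right (dvd_mul_left d m), Nat.mul_div_cancel _ hd0]
  obtain ⟨g, hg⟩ : ∃ g, g = (γ : GL (Fin 3) F) ^ d := ⟨_, rfl⟩
  rw [← hg] at hord
  have hgK : (g : Matrix (Fin 3) (Fin 3) F) ∈ K := by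
    have : g ∈ KU hK := by rw [hg]; exact (KU hK).pow_mem γ.2 d
    exact this
  have hpow : g ^ (q ^ 2 - q + 1) = 1 := orderOf_dvd_iff_pow_eq_one.1 (by rw [hord]; exact hm)
  refine ⟨g, hgK, ⟨?_, mem_specialLinear.2 ?_⟩, hord⟩
  · refine (mem_GU_iff_pow hF hK hadj hgK).2 ?_
    obtain ⟨e, he⟩ := hc3
    rw [he, pow_mul, hpow, one_pow]
  · have h2 := pow_eq_det (K := K) (by rw [Fintype.card_fin]; exact hK) hgK
    rw [hF, Fintype.card_fin] at h2
    have h3 : ((q ^ 2) ^ 3 - 1) / (q ^ 2 - 1) = q ^ 4 + q ^ 2 + 1 := by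
      apply Nat.div_eq_of_eq_mul_left
      · omega
      · obtain ⟨m, hm⟩ : ∃ m, q ^ 2 = m + 1 := ⟨q ^ 2 - 1, by omega⟩
        have h4 : q ^ 4 = (m + 1) ^ 2 := by rw [← hm]; ring
        rw [h4, hm]
        have : (m + 1) ^ 3 - 1 = ((m + 1) ^ 2 + (m + 1) + 1) * m := by
          have : (m + 1) ^ 3 = ((m + 1) ^ 2 + (m + 1) + 1) * m + 1 := by ring
          omega
        simpa only [_root_.add_tsub_cancel_right] using this
    have h5 : q ^ 4 + q ^ 2 + 1 = (q ^ 2 - q + 1) * (q ^ 2 + q + 1) := by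
      zify [hqq]
      ring
    rw [h3, h5, ← Units.val_pow_eq_pow_val, pow_mul, hpow, one_pow, Units.val_one] at h2
    have h6 := congrFun (congrFun h2 0) 0
    simpa using h6.symm

/-- **Conjugacy of the cubic fields** -/
theorem conj_cubic {r : ℕ} (hr : r.Prime) (hrq : ¬ r ∣ q) (hrq2 : ¬ r ∣ q ^ 2 - 1) (hr3 : r ∣ q ^ 3 + 1)
    {K K' : Subalgebra F (Matrix (Fin 3) (Fin 3) F)} (hK : IsFieldSubalgebra 3 K)
    (hadj : IsAdjointClosedFor (hermForm 3 F q) K) (hK' : IsFieldSubalgebra 3 K')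
    (hadj' : IsAdjointClosedFor (hermForm 3 F q) K') :
    ∃ g ∈ SUg 3 F q, ∀ x ∈ subalgebraNormalizer K ⊓ SUg 3 F q, g * x * g⁻¹ ∈ subalgebraNormalizer K' ⊓ SUg 3 F q := by
  have hq := two_le hF
  have hqq : q ≤ q ^ 2 := by nlinarith only []
  have hcS := card_SUg hF
  have hpos : Nat.card (SUg 3 F q) ≠ 0 := Nat.card_pos.ne'
  obtain ⟨k, hk⟩ : ∃ k, k = (Nat.card (SUg 3 F q)).factorization r := ⟨_, rfl⟩
  have h1 : r ^ k ∣ Nat.card (SUg 3 F q) := by rw [hk]; exact Nat.ordProj_dvd _ _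
  have h2 : ¬ r ^ (k + 1) ∣ Nat.card (SUg 3 F q) := by
    rw [hk]; exact Nat.pow_succ_factorization_not_dvd hpos hr
  have hk0 : k ≠ 0 := by
    rintro rfl
    apply h2
    rw [zero_add, pow_one, hcS]
    exact hr3.mul_left _
  have hq1 : ¬ r ∣ q + 1 := by
    intro h
    apply hrq2
    have : q ^ 2 - 1 = (q + 1) * (q - 1) := by
      have := Nat.sq_sub_sq q 1
      simpa only [_root_.one_pow] using this
    rw [this]
    exact h.mul_right _
  have h3 : r ^ k ∣ q ^ 2 - q + 1 := by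
    have h4 : Nat.card (SUg 3 F q) = (q ^ 3 * (q ^ 2 - 1) * (q + 1)) * (q ^ 2 - q + 1) := by
      rw [hcS, mul_assoc (q ^ 3 * (q ^ 2 - 1))]
      congr 1
      zify [hqq]
      ring
    rw [h4] at h1
    refine (Nat.Coprime.pow_left k ?_).dvd_of_dvd_mul_left h1
    rw [Nat.Prime.coprime_iff_not_dvd hr, hr.dvd_mul, hr.dvd_mul]
    rintro ((h | h) | h)
    · exact hrq (hr.dvd_of_dvd_pow h)
    · exact hrq2 h
    · exact hq1 h
  obtain ⟨a, haK, haS, hao⟩ := exists_orderOf_mem hF hK hadj h3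
  obtain ⟨b, hbK, hbS, hbo⟩ := exists_orderOf_mem hF hK' hadj' h3
  obtain ⟨s, hsS, hs⟩ := exists_conj_of_card (S := SUg 3 F q) (A := Subgroup.zpowers a) (B := Subgroup.zpowers b)
    hr (Subgroup.zpowers_le.2 haS) (Subgroup.zpowers_le.2 hbS) (by rw [Nat.card_zpowers, hao])
    (by rw [Nat.card_zpowers, hbo]) h2
  obtain ⟨c, hc⟩ : ∃ c, c = s * a * s⁻¹ := ⟨_, rfl⟩
  have hcK : (c : Matrix (Fin 3) (Fin 3) F) ∈ K' := by
    have h4 : Subgroup.zpowers b ≤ KU hK' := by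
      rw [Subgroup.zpowers_le]; exact hbK
    rw [hc]
    exact h4 (hs a (Subgroup.mem_zpowers a))
  have hco : orderOf c = r ^ k := by
    rw [hc, ← hao]
    exact orderOf_injective (MulAut.conj s).toMonoidHom (MulAut.conj s).injective a
  -- elements of order `r ^ k` are not scalar
  have hns : ∀ y : GL (Fin 3) F, orderOf y = r ^ k →
      ¬ ∃ c : F, (y : Matrix (Fin 3) (Fin 3) F) = c • (1 : Matrix (Fin 3) (Fin 3) F) := by
    rintro y hy ⟨c, hc⟩
    have hc0 : c ≠ 0 := by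
      rintro rfl
      rw [zero_smul] at hc
      exact y.ne_zero hc
    have h5 : y ^ (q ^ 2 - 1) = 1 := by
      apply Units.ext
      rw [Units.val_pow_eq_pow_val, hc, smul_pow, one_pow, ← hF, FiniteField.pow_card_sub_one_eq_one c hc0, one_smul,
        Units.val_one]
    have h6 := orderOf_dvd_of_pow_eq_one h5
    rw [hy] at h6
    exact hrq2 ((dvd_pow_self r hk0).trans h6)
  have hcoe : ∀ g : GL (Fin 3) F, ((g⁻¹ : GL (Fin 3) F) : Matrix (Fin 3) (Fin 3) F) * (g : Matrix (Fin 3) (Fin 3) F) = 1 :=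
    fun g => by rw [← Units.val_mul, inv_mul_cancel, Units.val_one]
  have hcoe' : ∀ g : GL (Fin 3) F, (g : Matrix (Fin 3) (Fin 3) F) * ((g⁻¹ : GL (Fin 3) F) : Matrix (Fin 3) (Fin 3) F) = 1 :=
    fun g => by rw [← Units.val_mul, mul_inv_cancel, Units.val_one]
  have hcm : (c : Matrix (Fin 3) (Fin 3) F) = (s : Matrix (Fin 3) (Fin 3) F) * (a : Matrix (Fin 3) (Fin 3) F) *
      ((s⁻¹ : GL (Fin 3) F) : Matrix (Fin 3) (Fin 3) F) := by
    rw [hc, Units.val_mul, Units.val_mul]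
  have hKK : ∀ m : Matrix (Fin 3) (Fin 3) F, m ∈ K ↔
      (s : Matrix (Fin 3) (Fin 3) F) * m * ((s⁻¹ : GL (Fin 3) F) : Matrix (Fin 3) (Fin 3) F) ∈ K' := by
    intro m
    constructor
    · intro hm
      apply mem_of_comm hK' hcK (hns c hco)
      have h5 := hK.comm m hm _ haK
      rw [hcm]
      calc (s : Matrix (Fin 3) (Fin 3) F) * m * ((s⁻¹ : GL (Fin 3) F) : Matrix (Fin 3) (Fin 3) F) *
            ((s : Matrix (Fin 3) (Fin 3) F) * (a : Matrix (Fin 3) (Fin 3) F) *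
              ((s⁻¹ : GL (Fin 3) F) : Matrix (Fin 3) (Fin 3) F))
          = (s : Matrix (Fin 3) (Fin 3) F) * (m * ((((s⁻¹ : GL (Fin 3) F) : Matrix (Fin 3) (Fin 3) F) *
            (s : Matrix (Fin 3) (Fin 3) F)) * (a : Matrix (Fin 3) (Fin 3) F))) *
              ((s⁻¹ : GL (Fin 3) F) : Matrix (Fin 3) (Fin 3) F) := by simp only [mul_assoc]
        _ = (s : Matrix (Fin 3) (Fin 3) F) * ((a : Matrix (Fin 3) (Fin 3) F) * ((((s⁻¹ : GL (Fin 3) F) :
            Matrix (Fin 3) (Fin 3) F) * (s : Matrix (Fin 3) (Fin 3) F)) * m)) *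
              ((s⁻¹ : GL (Fin 3) F) : Matrix (Fin 3) (Fin 3) F) := by rw [hcoe, one_mul, one_mul, h5]
        _ = _ := by simp only [mul_assoc]
    · intro hm
      apply mem_of_comm hK haK (hns a hao)
      have h5 := hK'.comm _ hm _ hcK
      rw [hcm] at h5
      have h6 := congrArg (fun y => ((s⁻¹ : GL (Fin 3) F) : Matrix (Fin 3) (Fin 3) F) * y *
        (s : Matrix (Fin 3) (Fin 3) F)) h5
      have h7 : ∀ m m' : Matrix (Fin 3) (Fin 3) F, ((s⁻¹ : GL (Fin 3) F) : Matrix (Fin 3) (Fin 3) F) *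
          ((s : Matrix (Fin 3) (Fin 3) F) * m * ((s⁻¹ : GL (Fin 3) F) : Matrix (Fin 3) (Fin 3) F) *
          ((s : Matrix (Fin 3) (Fin 3) F) * m' * ((s⁻¹ : GL (Fin 3) F) : Matrix (Fin 3) (Fin 3) F))) *
          (s : Matrix (Fin 3) (Fin 3) F) = m * m' := by
        intro m m'
        calc _ = (((s⁻¹ : GL (Fin 3) F) : Matrix (Fin 3) (Fin 3) F) * (s : Matrix (Fin 3) (Fin 3) F)) * m *
            (((s⁻¹ : GL (Fin 3) F) : Matrix (Fin 3) (Fin 3) F) * (s : Matrix (Fin 3) (Fin 3) F)) * m' *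
            (((s⁻¹ : GL (Fin 3) F) : Matrix (Fin 3) (Fin 3) F) * (s : Matrix (Fin 3) (Fin 3) F)) := by
              simp only [mul_assoc]
          _ = _ := by rw [hcoe]; simp only [mul_one, one_mul]
      rwa [h7, h7] at h6
  refine ⟨s, hsS, fun x hx => ⟨mem_subalgebraNormalizer_iff.2 fun m => ?_,
    (SUg 3 F q).mul_mem ((SUg 3 F q).mul_mem hsS hx.2) ((SUg 3 F q).inv_mem hsS)⟩⟩
  obtain ⟨m', hm'⟩ : ∃ m', m' = ((s⁻¹ : GL (Fin 3) F) : Matrix (Fin 3) (Fin 3) F) * m *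
    (s : Matrix (Fin 3) (Fin 3) F) := ⟨_, rfl⟩
  have hm : m = (s : Matrix (Fin 3) (Fin 3) F) * m' * ((s⁻¹ : GL (Fin 3) F) : Matrix (Fin 3) (Fin 3) F) := by
    rw [hm']
    calc m = ((s : Matrix (Fin 3) (Fin 3) F) * ((s⁻¹ : GL (Fin 3) F) : Matrix (Fin 3) (Fin 3) F)) * m *
        ((s : Matrix (Fin 3) (Fin 3) F) * ((s⁻¹ : GL (Fin 3) F) : Matrix (Fin 3) (Fin 3) F)) := by
          rw [hcoe', one_mul, mul_one]
      _ = _ := by simp only [mul_assoc]
  have h8 : ((s * x * s⁻¹ : GL (Fin 3) F) : Matrix (Fin 3) (Fin 3) F) * m *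
      (((s * x * s⁻¹)⁻¹ : GL (Fin 3) F) : Matrix (Fin 3) (Fin 3) F) =
      (s : Matrix (Fin 3) (Fin 3) F) * ((x : Matrix (Fin 3) (Fin 3) F) * m' *
        ((x⁻¹ : GL (Fin 3) F) : Matrix (Fin 3) (Fin 3) F)) * ((s⁻¹ : GL (Fin 3) F) : Matrix (Fin 3) (Fin 3) F) := by
    have h9 : (s * x * s⁻¹)⁻¹ = s * x⁻¹ * s⁻¹ := by group
    rw [h9, hm]
    simp only [Units.val_mul]
    calc _ = (s : Matrix (Fin 3) (Fin 3) F) * (x : Matrix (Fin 3) (Fin 3) F) *
        (((s⁻¹ : GL (Fin 3) F) : Matrix (Fin 3) (Fin 3) F) * (s : Matrix (Fin 3) (Fin 3) F)) * m' *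
        (((s⁻¹ : GL (Fin 3) F) : Matrix (Fin 3) (Fin 3) F) * (s : Matrix (Fin 3) (Fin 3) F)) *
        ((x⁻¹ : GL (Fin 3) F) : Matrix (Fin 3) (Fin 3) F) * ((s⁻¹ : GL (Fin 3) F) : Matrix (Fin 3) (Fin 3) F) := by
          simp only [mul_assoc]
      _ = _ := by rw [hcoe]; simp only [mul_one, mul_assoc]
  rw [h8, ← hKK, hm, ← hKK]
  exact hx.1 m'

end field

/-! ### The list of the maximal subgroups for `q = 2 ^ (2 ^ m)` -/

theorem sub_excl {m c r : ℕ} (hr : r.Prime) (ho : Odd r) (h : (2 ^ (2 ^ m)) ^ 2 = c ^ r) : False := by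
  have h1 : c ∣ 2 ^ (2 ^ m * 2) := by
    rw [pow_mul, h]
    exact dvd_pow_self c hr.ne_zero
  obtain ⟨j, -, rfl⟩ := (Nat.dvd_prime_pow Nat.prime_two).1 h1
  rw [← pow_mul, ← pow_mul] at h
  have h2 := Nat.pow_right_injective le_rfl h
  have h3 : r ∣ 2 ^ (m + 1) := by
    rw [pow_succ, h2]
    exact dvd_mul_left r j
  have h4 := (Nat.prime_dvd_prime_iff_eq hr Nat.prime_two).1 (hr.dvd_of_dvd_pow h3)
  rw [h4] at ho
  exact absurd ho (by decide)

theorem not_prime_q {m : ℕ} (hm : 1 ≤ m) : ¬ (2 ^ (2 ^ m)).Prime := by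
  have h1 : 2 ^ m ≠ 1 := by
    have : 2 ^ 1 ≤ 2 ^ m := Nat.pow_le_pow_right (by norm_num) hm
    omega
  intro h
  exact h1 (Nat.Prime.eq_one_of_pow h)

end Cfsg.Agent.H950.MC
end

-- part: H950/MCThreeA
section
/-!
# `SU₃(3)`: elements of order `7`, elements of order `3` and the involutions inverting them
(helper950, for S5906, S5907)
-/

set_option autoImplicit false
set_option linter.unusedSectionVars false

namespace Cfsg.Agent.H950.MC

open Cfsg Cfsg.Geo Matrix Cfsg.Agent.H918 Cfsg.Agent.LieClassical.HermBasic Cfsg.Agent.H907 Cfsg.Agent.H907.SU3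
  Cfsg.Agent.H907.Mx Cfsg.Agent.H914 Cfsg.Agent.H940.MaxCls
open scoped MatrixGroups

variable {F : Type*} [Field F]

/-! ### The commutant of a regular nilpotent matrix -/

theorem eq_of_comm {N C : Matrix (Fin 3) (Fin 3) F} {y : Fin 3 → F} (hN : N * N * N = 0)
    (hy : (N * N) *ᵥ y ≠ 0) (hC : C * N = N * C) :
    ∃ α β γ : F, C = α • (1 : Matrix (Fin 3) (Fin 3) F) + β • N + γ • (N * N) := by
  have hN3 : ∀ v, N *ᵥ (N *ᵥ (N *ᵥ v)) = 0 := by
    intro v
    rw [Matrix.mulVec_mulVec, Matrix.mulVec_mulVec, hN, Matrix.zero_mulVec]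
  have hy' : N *ᵥ (N *ᵥ y) ≠ 0 := by rwa [Matrix.mulVec_mulVec]
  have hCN : ∀ v, C *ᵥ (N *ᵥ v) = N *ᵥ (C *ᵥ v) := by
    intro v
    rw [Matrix.mulVec_mulVec, Matrix.mulVec_mulVec, hC]
  let b : Fin 3 → Fin 3 → F := ![y, N *ᵥ y, N *ᵥ (N *ᵥ y)]
  have hli : LinearIndependent F b := by
    rw [Fintype.linearIndependent_iff]
    intro g hg
    rw [Fin.sum_univ_three] at hg
    have h0 : g 0 • y + g 1 • (N *ᵥ y) + g 2 • (N *ᵥ (N *ᵥ y)) = 0 := hg
    have e0 : g 0 = 0 := by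
      have h1 := congrArg (fun v => N *ᵥ (N *ᵥ v)) h0
      simp only [Matrix.mulVec_add, Matrix.mulVec_smul, hN3, Matrix.mulVec_zero, smul_zero, add_zero] at h1
      exact (smul_eq_zero.1 h1).resolve_right hy'
    rw [e0, zero_smul, zero_add] at h0
    have e1 : g 1 = 0 := by
      have h1 := congrArg (fun v => N *ᵥ v) h0
      simp only [Matrix.mulVec_add, Matrix.mulVec_smul, hN3, Matrix.mulVec_zero, smul_zero, add_zero] at h1
      exact (smul_eq_zero.1 h1).resolve_right hy'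
    rw [e1, zero_smul, zero_add] at h0
    have e2 : g 2 = 0 := (smul_eq_zero.1 h0).resolve_right hy'
    intro i
    fin_cases i
    · exact e0
    · exact e1
    · exact e2
  -- the matrix with these columns
  let B : Matrix (Fin 3) (Fin 3) F := (Matrix.of b)ᵀ
  have hB : IsUnit B := by
    rw [← Matrix.linearIndependent_cols_iff_isUnit]
    exact hli
  have hBdet : IsUnit B.det := (Matrix.isUnit_iff_isUnit_det B).1 hB
  have hcol : ∀ i, B *ᵥ Pi.single i 1 = b i := by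
    intro i
    rw [Matrix.mulVec_single_one]
    rfl
  obtain ⟨k, hk⟩ : ∃ k : Fin 3 → F, B *ᵥ k = C *ᵥ y := by
    refine ⟨B⁻¹ *ᵥ (C *ᵥ y), ?_⟩
    rw [Matrix.mulVec_mulVec, Matrix.mul_nonsing_inv B hBdet, Matrix.one_mulVec]
  have hBk : ∀ k : Fin 3 → F, B *ᵥ k = k 0 • y + k 1 • (N *ᵥ y) + k 2 • (N *ᵥ (N *ᵥ y)) := by
    intro k
    have h1 : k = k 0 • Pi.single 0 1 + k 1 • Pi.single 1 1 + k 2 • Pi.single 2 1 := by
      ext i
      (revert i; simp only [_root_.Fin.forall_fin_succ, Fin.isValue, _root_.Pi.add_apply, _root_.Pi.smul_apply, _root_.smul_eq_mul, _root_.Pi.single_eq_same, _root_.mul_one, _root_.ne_eq, _root_.zero_ne_one, _root_.not_false_eq_true, _root_.Pi.single_eq_of_ne, _root_.MulZeroClass.mul_zero, _root_.add_zero, Fin.reduceEq, _root_.Fin.succ_ne_zero, _root_.zero_add, _root_.Fin.succ_zero_eq_one, _root_.Fin.succ_one_eq_two, _root_.IsEmpty.forall_iff, _root_.and_self])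
    conv_lhs => rw [h1]
    rw [Matrix.mulVec_add, Matrix.mulVec_add, Matrix.mulVec_smul, Matrix.mulVec_smul, Matrix.mulVec_smul, hcol, hcol,
      hcol]
    rfl
  have hCy : C *ᵥ y = k 0 • y + k 1 • (N *ᵥ y) + k 2 • (N *ᵥ (N *ᵥ y)) := by rw [← hk, hBk]
  have hCy1 : C *ᵥ (N *ᵥ y) = k 0 • (N *ᵥ y) + k 1 • (N *ᵥ (N *ᵥ y)) := by
    rw [hCN, hCy]
    simp only [Matrix.mulVec_add, Matrix.mulVec_smul, hN3, smul_zero, add_zero]
  have hCy2 : C *ᵥ (N *ᵥ (N *ᵥ y)) = k 0 • (N *ᵥ (N *ᵥ y)) := by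
    rw [hCN, hCy1]
    simp only [Matrix.mulVec_add, Matrix.mulVec_smul, hN3, smul_zero, add_zero]
  refine ⟨k 0, k 1, k 2, ?_⟩
  obtain ⟨D, hD⟩ : ∃ D, D = k 0 • (1 : Matrix (Fin 3) (Fin 3) F) + k 1 • N + k 2 • (N * N) := ⟨_, rfl⟩
  rw [← hD]
  have hDv : ∀ v, D *ᵥ v = k 0 • v + k 1 • (N *ᵥ v) + k 2 • (N *ᵥ (N *ᵥ v)) := by
    intro v
    rw [hD, Matrix.add_mulVec, Matrix.add_mulVec, Matrix.smul_mulVec, Matrix.smul_mulVec, Matrix.smul_mulVec,
      Matrix.one_mulVec, Matrix.mulVec_mulVec]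
  have key : C * B = D * B := by
    have key : ∀ i, (C * B) *ᵥ Pi.single i 1 = (D * B) *ᵥ Pi.single i 1 := by
      intro i
      rw [← Matrix.mulVec_mulVec, ← Matrix.mulVec_mulVec, hcol]
      fin_cases i
      · show C *ᵥ y = D *ᵥ y
        rw [hCy, hDv]
      · show C *ᵥ (N *ᵥ y) = D *ᵥ (N *ᵥ y)
        rw [hCy1, hDv, hN3, smul_zero, add_zero]
      · show C *ᵥ (N *ᵥ (N *ᵥ y)) = D *ᵥ (N *ᵥ (N *ᵥ y))
        rw [hCy2, hDv, hN3, Matrix.mulVec_zero, smul_zero, smul_zero, add_zero, add_zero]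
    ext i j
    have h1 := congrFun (key j) i
    rwa [Matrix.mulVec_single_one, Matrix.mulVec_single_one] at h1
  calc C = C * B * B⁻¹ := by rw [mul_assoc, Matrix.mul_nonsing_inv B hBdet, mul_one]
    _ = D * B * B⁻¹ := by rw [key]
    _ = D := by rw [mul_assoc, Matrix.mul_nonsing_inv B hBdet, mul_one]

/-- comparison of coefficients -/
theorem coeff_eq {N : Matrix (Fin 3) (Fin 3) F} (hN : N * N * N = 0) (hN2 : N * N ≠ 0) {a b c a' b' c' : F}
    (h : a • (1 : Matrix (Fin 3) (Fin 3) F) + b • N + c • (N * N) =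
      a' • (1 : Matrix (Fin 3) (Fin 3) F) + b' • N + c' • (N * N)) : a = a' ∧ b = b' ∧ c = c' := by
  have h4 : N * N * (N * N) = 0 := by rw [← mul_assoc, hN, zero_mul]
  have h1 : a = a' := by
    have h2 := congrArg (fun X => X * (N * N)) h
    simp only [add_mul, Matrix.smul_mul, one_mul, h4, smul_zero, add_zero, ← mul_assoc, hN] at h2
    have h3 : (a - a') • (N * N) = 0 := by rw [sub_smul, h2, sub_self]
    exact sub_eq_zero.1 ((smul_eq_zero.1 h3).resolve_right hN2)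
  rw [h1, add_assoc, add_assoc] at h
  have h := add_left_cancel h
  have h5 : b = b' := by
    have h2 := congrArg (fun X => X * N) h
    simp only [add_mul, Matrix.smul_mul, hN, smul_zero, add_zero] at h2
    have h3 : (b - b') • (N * N) = 0 := by rw [sub_smul, h2, sub_self]
    exact sub_eq_zero.1 ((smul_eq_zero.1 h3).resolve_right hN2)
  rw [h5] at h
  have h := add_left_cancel h
  have h3 : (c - c') • (N * N) = 0 := by rw [sub_smul, h, sub_self]
  exact ⟨h1, h5, sub_eq_zero.1 ((smul_eq_zero.1 h3).resolve_right hN2)⟩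

theorem poly_mul {N : Matrix (Fin 3) (Fin 3) F} (hN : N * N * N = 0) (a b c a' b' c' : F) :
    (a • (1 : Matrix (Fin 3) (Fin 3) F) + b • N + c • (N * N)) *
      (a' • (1 : Matrix (Fin 3) (Fin 3) F) + b' • N + c' • (N * N)) =
      (a * a') • (1 : Matrix (Fin 3) (Fin 3) F) + (a * b' + b * a') • N + (a * c' + b * b' + c * a') • (N * N) := by
  have hN4 : N * (N * N) = 0 := by rw [← mul_assoc, hN]
  have hN5 : N * N * (N * N) = 0 := by rw [← mul_assoc, hN, zero_mul]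
  simp only [add_mul, mul_add, Matrix.smul_mul, Matrix.mul_smul, one_mul, mul_one, hN, hN4, hN5, smul_zero, add_zero,
    smul_smul]
  module

/-! ### A regular unipotent element -/

theorem sq_ne_zero {a b : GL (Fin 3) F} (hab : b * a * b⁻¹ = a ^ 2)
    (hirr : ∀ W : Submodule F (Fin 3 → F), (∀ w ∈ W, (a : Matrix (Fin 3) (Fin 3) F) *ᵥ w ∈ W) → W = ⊥ ∨ W = ⊤) :
    ((b : Matrix (Fin 3) (Fin 3) F) - 1) * ((b : Matrix (Fin 3) (Fin 3) F) - 1) ≠ 0 := by
  intro h0
  obtain ⟨N, hN⟩ : ∃ N, N = (b : Matrix (Fin 3) (Fin 3) F) - 1 := ⟨_, rfl⟩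
  rw [← hN] at h0
  let f := Matrix.toLin' N
  have hfin : Module.finrank F (Fin 3 → F) = 3 := by simp
  have h1 : LinearMap.range f ≤ LinearMap.ker f := by
    rintro _ ⟨v, rfl⟩
    rw [LinearMap.mem_ker]
    show Matrix.toLin' N (Matrix.toLin' N v) = 0
    rw [Matrix.toLin'_apply, Matrix.toLin'_apply, Matrix.mulVec_mulVec, h0, Matrix.zero_mulVec]
  have h2 := LinearMap.finrank_range_add_finrank_ker f
  rw [hfin] at h2
  have h3 := Submodule.finrank_mono h1
  obtain ⟨U, hU⟩ : ∃ U, U = LinearMap.ker f := ⟨_, rfl⟩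
  rw [← hU] at h2 h3
  obtain ⟨U', hU'⟩ : ∃ U', U' = pre a U := ⟨_, rfl⟩
  have h4 : Module.finrank F U' = Module.finrank F U := by
    have h5 : U'.map (Matrix.toLin' (a : Matrix (Fin 3) (Fin 3) F)) = U := by
      ext v
      constructor
      · rintro ⟨w, hw, rfl⟩
        rw [hU', SetLike.mem_coe, mem_pre] at hw
        rw [Matrix.toLin'_apply]
        exact hw
      · intro hv
        refine ⟨((a⁻¹ : GL (Fin 3) F) : Matrix (Fin 3) (Fin 3) F) *ᵥ v, ?_, ?_⟩
        · rw [hU', SetLike.mem_coe, mem_pre, Matrix.mulVec_mulVec, ← Units.val_mul, mul_inv_cancel, Units.val_one,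
            Matrix.one_mulVec]
          exact hv
        · rw [Matrix.toLin'_apply, Matrix.mulVec_mulVec, ← Units.val_mul, mul_inv_cancel, Units.val_one,
            Matrix.one_mulVec]
    rw [← h5]
    refine (LinearEquiv.finrank_eq (Submodule.equivMapOfInjective _ ?_ U'))
    intro v w hvw
    rw [Matrix.toLin'_apply, Matrix.toLin'_apply] at hvw
    have h6 := congrArg (fun u => ((a⁻¹ : GL (Fin 3) F) : Matrix (Fin 3) (Fin 3) F) *ᵥ u) hvw
    simpa only [Matrix.mulVec_mulVec, ← Units.val_mul, inv_mul_cancel, Units.val_one, Matrix.one_mulVec] using h6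
  have h5 := Submodule.finrank_sup_add_finrank_inf_eq U U'
  have h6 := Submodule.finrank_le (U ⊔ U')
  rw [hfin] at h6
  have h7 : U ⊓ U' ≠ ⊥ := by
    intro h
    rw [h, finrank_bot] at h5
    omega
  obtain ⟨v, hv, hv0⟩ := Submodule.exists_mem_ne_zero_of_ne_bot h7
  have hfix : ∀ w ∈ U, (b : Matrix (Fin 3) (Fin 3) F) *ᵥ w = w := by
    intro w hw
    rw [hU, LinearMap.mem_ker] at hw
    have hw' : N *ᵥ w = 0 := hw
    rw [hN, Matrix.sub_mulVec, Matrix.one_mulVec, sub_eq_zero] at hw'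
    exact hw'
  have e1 := hfix v hv.1
  have e2 := hfix _ (mem_pre.1 (by rw [← hU']; exact hv.2))
  have hba : b * a = a * (a * b) := by
    rw [← mul_assoc, ← sq, ← hab]
    group
  have e3 : (b : Matrix (Fin 3) (Fin 3) F) *ᵥ ((a : Matrix (Fin 3) (Fin 3) F) *ᵥ v) =
      (a : Matrix (Fin 3) (Fin 3) F) *ᵥ ((a : Matrix (Fin 3) (Fin 3) F) *ᵥ v) := by
    rw [Matrix.mulVec_mulVec, ← Units.val_mul, hba, Units.val_mul, Units.val_mul, ← Matrix.mulVec_mulVec,
      ← Matrix.mulVec_mulVec, e1]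
  rw [e2] at e3
  have e4 : (a : Matrix (Fin 3) (Fin 3) F) *ᵥ v = v := by
    have h6 := congrArg (fun u => ((a⁻¹ : GL (Fin 3) F) : Matrix (Fin 3) (Fin 3) F) *ᵥ u) e3
    simp only [Matrix.mulVec_mulVec, ← Units.val_mul, inv_mul_cancel_left, inv_mul_cancel, Units.val_one,
      Matrix.one_mulVec] at h6
    exact h6.symm
  rcases hirr (F ∙ v) (fun w hw => by
    obtain ⟨c, rfl⟩ := Submodule.mem_span_singleton.1 hw
    rw [Matrix.mulVec_smul, e4]
    exact hw) with h | h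
  · exact hv0 (Submodule.span_singleton_eq_bot.1 h)
  · have h8 := finrank_span_singleton (K := F) hv0
    rw [h, finrank_top, hfin] at h8
    omega

section three

variable [Fintype F] (hF : Fintype.card F = 3 ^ 2)
include hF

theorem three_zero : (3 : F) = 0 := by
  have h1 : ((9 : ℕ) : F) = 0 := by
    have := Nat.cast_card_eq_zero F
    rwa [hF] at this
  have h2 : (3 : F) * 3 = 0 := by
    have : ((9 : ℕ) : F) = 3 * 3 := by norm_num
    rw [← this, h1]
  rcases mul_eq_zero.1 h2 with h | h <;> exact h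

/-- the involutions of `SU₃(3)` inverting a regular unipotent element of order `3` -/
theorem inv_of_inverting {b t t' : GL (Fin 3) F} (hb : b ^ 3 = 1)
    (hN2 : ((b : Matrix (Fin 3) (Fin 3) F) - 1) * ((b : Matrix (Fin 3) (Fin 3) F) - 1) ≠ 0) (hbS : b ∈ SUg 3 F 3)
    (htS : t ∈ SUg 3 F 3) (htS' : t' ∈ SUg 3 F 3) (ht2 : t * t = 1) (ht2' : t' * t' = 1)
    (ht : t * b * t⁻¹ = b⁻¹) (ht' : t' * b * t'⁻¹ = b⁻¹) : t' * t ∈ Subgroup.zpowers b := by
  have h3 := three_zero hF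
  obtain ⟨N, hN⟩ : ∃ N, N = (b : Matrix (Fin 3) (Fin 3) F) - 1 := ⟨_, rfl⟩
  have hbN : (b : Matrix (Fin 3) (Fin 3) F) = 1 + N := by rw [hN]; abel
  rw [← hN] at hN2
  have hN3 : N * N * N = 0 := by
    have h1 := congrArg Units.val hb
    rw [Units.val_pow_eq_pow_val, hbN, Units.val_one] at h1
    have h2 : (1 + N) ^ 3 = 1 + N * N * N + (3 : F) • (N + N * N) := by
      rw [pow_succ, pow_two]
      have : (3 : F) • (N + N * N) = (N + N * N) + (N + N * N) + (N + N * N) := by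
        rw [show (3 : F) = 1 + 1 + 1 by norm_num, add_smul, add_smul, one_smul]
      rw [this]
      noncomm_ring
    rw [h2, h3, zero_smul, add_zero] at h1
    exact add_eq_left.1 h1
  have hN4 : N * (N * N) = 0 := by rw [← mul_assoc, hN3]
  have hN5 : N * N * (N * N) = 0 := by rw [← mul_assoc, hN3, zero_mul]
  -- the inverse of `b`
  have hbi : ((b⁻¹ : GL (Fin 3) F) : Matrix (Fin 3) (Fin 3) F) = 1 - N + N * N := by
    have h1 : (b : Matrix (Fin 3) (Fin 3) F) * (1 - N + N * N) = 1 := by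
      have : (1 + N) * (1 - N + N * N) = 1 + N * N * N := by noncomm_ring
      rw [hbN, this, hN3, add_zero]
    calc ((b⁻¹ : GL (Fin 3) F) : Matrix (Fin 3) (Fin 3) F) =
        ((b⁻¹ : GL (Fin 3) F) : Matrix (Fin 3) (Fin 3) F) * ((b : Matrix (Fin 3) (Fin 3) F) * (1 - N + N * N)) := by
          rw [h1, mul_one]
      _ = _ := by rw [← mul_assoc, ← Units.val_mul, inv_mul_cancel, Units.val_one, one_mul]
  obtain ⟨y, hy⟩ : ∃ y : Fin 3 → F, (N * N) *ᵥ y ≠ 0 := by
    by_contra hcon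
    push Not at hcon
    apply hN2
    ext i j
    have := congrFun (hcon (Pi.single j 1)) i
    rwa [Matrix.mulVec_single_one] at this
  -- the element `c`
  obtain ⟨c, hc⟩ : ∃ c, c = t' * t := ⟨_, rfl⟩
  have htb : t * b = b⁻¹ * t := by rw [← ht]; group
  have htb' : t' * b = b⁻¹ * t' := by rw [← ht']; group
  have htb'' : t' * b⁻¹ = b * t' := by
    have h1 : b * (t' * b) = t' := by rw [htb']; group
    calc t' * b⁻¹ = b * (t' * b) * b⁻¹ := by rw [h1]
      _ = b * t' := by group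
  have hcb : c * b = b * c := by
    rw [hc, mul_assoc, htb, ← mul_assoc, htb'', mul_assoc]
  have hti : t⁻¹ = t := inv_eq_of_mul_eq_one_left ht2
  have hci : c⁻¹ = t * c * t⁻¹ := by
    rw [hc, _root_.mul_inv_rev, inv_eq_of_mul_eq_one_left ht2', hti]
    calc t * t' = t * t' * (t * t) := by rw [ht2, mul_one]
      _ = _ := by group
  have hcS : c ∈ SUg 3 F 3 := by rw [hc]; exact (SUg 3 F 3).mul_mem htS' htS
  rw [← hc]
  have hcN : (c : Matrix (Fin 3) (Fin 3) F) * N = N * (c : Matrix (Fin 3) (Fin 3) F) := by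
    have h1 := congrArg Units.val hcb
    rw [Units.val_mul, Units.val_mul] at h1
    rw [hN, mul_sub, sub_mul, h1, mul_one, one_mul]
  obtain ⟨α, β, γ, hC⟩ := eq_of_comm hN3 hy hcN
  -- the inverse as the adjoint
  have hctN : ct 3 N = (-1 : F) • N + (1 : F) • (N * N) := by
    have h1 := (mem_GU_iff_ct hF).1 hbS.1
    have h2 : ct 3 (b : Matrix (Fin 3) (Fin 3) F) = ((b⁻¹ : GL (Fin 3) F) : Matrix (Fin 3) (Fin 3) F) := by
      calc ct 3 (b : Matrix (Fin 3) (Fin 3) F) = ct 3 (b : Matrix (Fin 3) (Fin 3) F) *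
            ((b : Matrix (Fin 3) (Fin 3) F) * ((b⁻¹ : GL (Fin 3) F) : Matrix (Fin 3) (Fin 3) F)) := by
            rw [← Units.val_mul, mul_inv_cancel, Units.val_one, mul_one]
        _ = _ := by rw [← mul_assoc, h1, one_mul]
    rw [hbi, hbN, ct_add hF, ct_one hF] at h2
    have h4 : ct 3 N = -N + N * N := by
      have h5 : 1 + ct 3 N = 1 + (-N + N * N) := by rw [h2]; abel
      exact add_left_cancel h5
    rw [h4, neg_smul, one_smul, one_smul]
  have hci' : ((c⁻¹ : GL (Fin 3) F) : Matrix (Fin 3) (Fin 3) F) = ct 3 (c : Matrix (Fin 3) (Fin 3) F) := by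
    have h1 := (mem_GU_iff_ct hF).1 hcS.1
    calc ((c⁻¹ : GL (Fin 3) F) : Matrix (Fin 3) (Fin 3) F) = (ct 3 (c : Matrix (Fin 3) (Fin 3) F) *
          (c : Matrix (Fin 3) (Fin 3) F)) * ((c⁻¹ : GL (Fin 3) F) : Matrix (Fin 3) (Fin 3) F) := by rw [h1, one_mul]
      _ = _ := by rw [mul_assoc, ← Units.val_mul, mul_inv_cancel, Units.val_one, mul_one]
  have hsm : ∀ (a : F) (M : Matrix (Fin 3) (Fin 3) F), ct 3 (a • M) = a ^ 3 • ct 3 M := by
    intro a M
    ext i j
    simp [ct, mul_pow]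
  have hNN : ((-1 : F) • N + (1 : F) • (N * N)) * ((-1 : F) • N + (1 : F) • (N * N)) = N * N := by
    rw [neg_smul, one_smul, one_smul]
    have : (-N + N * N) * (-N + N * N) = N * N - N * N * N - N * N * N + N * N * (N * N) := by noncomm_ring
    rw [this, hN3, hN5, sub_zero, sub_zero, add_zero]
  have hctC : ct 3 (c : Matrix (Fin 3) (Fin 3) F) = α ^ 3 • (1 : Matrix (Fin 3) (Fin 3) F) + (-(β ^ 3)) • N +
      (β ^ 3 + γ ^ 3) • (N * N) := by
    rw [hC, ct_add hF, ct_add hF, hsm, hsm, hsm, ct_one hF, ct_mul hF, hctN, hNN, smul_add, smul_smul, smul_smul,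
      add_smul, mul_neg_one, mul_one]
    abel
  -- conjugation by `t`
  have htN : (t : Matrix (Fin 3) (Fin 3) F) * N * ((t⁻¹ : GL (Fin 3) F) : Matrix (Fin 3) (Fin 3) F) =
      (-1 : F) • N + (1 : F) • (N * N) := by
    have h1 := congrArg Units.val ht
    rw [Units.val_mul, Units.val_mul, hbN, hbi, mul_add, mul_one, add_mul, ← Units.val_mul, mul_inv_cancel,
      Units.val_one] at h1
    have h5 : (1 : Matrix (Fin 3) (Fin 3) F) + (t : Matrix (Fin 3) (Fin 3) F) * N *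
        ((t⁻¹ : GL (Fin 3) F) : Matrix (Fin 3) (Fin 3) F) = 1 + (-N + N * N) := by rw [h1]; abel
    rw [add_left_cancel h5, neg_smul, one_smul, one_smul]
  have htNN : (t : Matrix (Fin 3) (Fin 3) F) * (N * N) * ((t⁻¹ : GL (Fin 3) F) : Matrix (Fin 3) (Fin 3) F) = N * N := by
    have h1 : (t : Matrix (Fin 3) (Fin 3) F) * (N * N) * ((t⁻¹ : GL (Fin 3) F) : Matrix (Fin 3) (Fin 3) F) =
        ((t : Matrix (Fin 3) (Fin 3) F) * N * ((t⁻¹ : GL (Fin 3) F) : Matrix (Fin 3) (Fin 3) F)) *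
        ((t : Matrix (Fin 3) (Fin 3) F) * N * ((t⁻¹ : GL (Fin 3) F) : Matrix (Fin 3) (Fin 3) F)) := by
      calc _ = (t : Matrix (Fin 3) (Fin 3) F) * N * (((t⁻¹ : GL (Fin 3) F) : Matrix (Fin 3) (Fin 3) F) *
            (t : Matrix (Fin 3) (Fin 3) F)) * N * ((t⁻¹ : GL (Fin 3) F) : Matrix (Fin 3) (Fin 3) F) := by
            rw [← Units.val_mul, inv_mul_cancel, Units.val_one, mul_one]
            simp only [mul_assoc]
        _ = _ := by simp only [mul_assoc]
    rw [h1, htN, hNN]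
  have hconj : ((c⁻¹ : GL (Fin 3) F) : Matrix (Fin 3) (Fin 3) F) = α • (1 : Matrix (Fin 3) (Fin 3) F) + (-β) • N +
      (β + γ) • (N * N) := by
    rw [hci, Units.val_mul, Units.val_mul, hC, mul_add, mul_add, add_mul, add_mul, Matrix.mul_smul, Matrix.mul_smul,
      Matrix.mul_smul, Matrix.smul_mul, Matrix.smul_mul, Matrix.smul_mul, htN, htNN, mul_one, ← Units.val_mul,
      mul_inv_cancel, Units.val_one, smul_add, smul_smul, smul_smul, add_smul, mul_neg_one, mul_one]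
    abel
  have hcoef := coeff_eq hN3 hN2 (hconj.symm.trans (hci'.trans hctC))
  obtain ⟨-, e2, -⟩ := hcoef
  have hβ : β ^ 3 = β := by linear_combination e2
  -- the product with the inverse
  have hprod : (α * α) • (1 : Matrix (Fin 3) (Fin 3) F) + (α * -β + β * α) • N +
      (α * (β + γ) + β * -β + γ * α) • (N * N) = (1 : F) • (1 : Matrix (Fin 3) (Fin 3) F) + (0 : F) • N +
      (0 : F) • (N * N) := by
    rw [← poly_mul hN3, ← hconj, ← hC, ← Units.val_mul, mul_inv_cancel, Units.val_one, one_smul, zero_smul, zero_smul,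
      add_zero, add_zero]
  obtain ⟨-, -, e3⟩ := coeff_eq hN3 hN2 hprod
  -- `α = 1`
  have hα : α = 1 := by
    have h1 : (c : Matrix (Fin 3) (Fin 3) F) * (c : Matrix (Fin 3) (Fin 3) F) * (c : Matrix (Fin 3) (Fin 3) F) =
        (α * α * α) • (1 : Matrix (Fin 3) (Fin 3) F) := by
      rw [hC, poly_mul hN3, poly_mul hN3]
      have h4 : α * α * β + (α * β + β * α) * α = 0 := by linear_combination (α * α * β) * h3
      have h5 : α * α * γ + (α * β + β * α) * β + (α * γ + β * β + γ * α) * α = 0 := by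
        linear_combination (α * α * γ + α * β * β) * h3
      rw [h4, h5, zero_smul, zero_smul, add_zero, add_zero]
    have h2 := congrArg Matrix.det h1
    rw [Matrix.det_mul, Matrix.det_mul, (mem_SUg.1 hcS).2, Matrix.det_smul, Matrix.det_one, Fintype.card_fin] at h2
    have h4 : α ^ 9 = α := by
      have := FiniteField.pow_card α
      rwa [hF] at this
    rw [← h4]
    have h5 : (α * α * α) ^ 3 * 1 = α ^ 9 := by ring
    rw [← h5, ← h2]
    ring
  rw [hα] at e3 hC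
  have hγ : γ = β - β ^ 2 := by linear_combination (γ * h3 - e3)
  have hβ' : β * ((β - 1) * (β + 1)) = 0 := by linear_combination hβ
  rcases mul_eq_zero.1 hβ' with h | h
  · have h1 : c = 1 := by
      apply Units.ext
      rw [hC, hγ, h, Units.val_one]
      simp
    rw [h1]
    exact Subgroup.one_mem _
  · rcases mul_eq_zero.1 h with h | h
    · have h1 : c = b := by
        apply Units.ext
        rw [hC, hγ, sub_eq_zero.1 h, hbN]
        simp
      rw [h1]
      exact Subgroup.mem_zpowers b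
    · have h1 : c = b⁻¹ := by
        apply Units.ext
        have h2 : β = -1 := eq_neg_of_add_eq_zero_left h
        have h4 : γ = 1 := by rw [hγ, h2]; linear_combination (-1 : F) * h3
        rw [hC, h4, h2, hbi, one_smul, one_smul, neg_smul, one_smul]
        abel
      rw [h1]
      exact (Subgroup.zpowers b).inv_mem (Subgroup.mem_zpowers b)

/-! ### Elements of order `7` -/

theorem irr_seven {a : GL (Fin 3) F} (ha : orderOf a = 7) :
    ∀ W : Submodule F (Fin 3 → F), (∀ w ∈ W, (a : Matrix (Fin 3) (Fin 3) F) *ᵥ w ∈ W) → W = ⊥ ∨ W = ⊤ := by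
  intro W hW
  refine Cfsg.Agent.H915.irr_of_prime_order (by norm_num) ha (by rw [hF]; norm_num) ?_ hW
  intro i hi hi3
  rw [Fintype.card_fin] at hi3
  rw [hF]
  interval_cases i <;> norm_num

/-- the centraliser in `SU₃(3)` of an element of order `7` -/
theorem cent_seven {a c : GL (Fin 3) F} (haS : a ∈ SUg 3 F 3) (ha : orderOf a = 7) (hcS : c ∈ SUg 3 F 3)
    (hca : c * a = a * c) : c ∈ Subgroup.zpowers a := by
  have hirr := irr_seven hF ha
  obtain ⟨K, hK, hadj, haK⟩ := exists_field hF haS hirr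
  have hns : ¬ ∃ c : F, (a : Matrix (Fin 3) (Fin 3) F) = c • (1 : Matrix (Fin 3) (Fin 3) F) := by
    rintro ⟨d, hd⟩
    have hv : (Pi.single 0 1 : Fin 3 → F) ≠ 0 := fun h => by
      have := congrFun h 0
      simp at this
    rcases hirr (F ∙ (Pi.single 0 1 : Fin 3 → F)) (fun w hw => by
      rw [hd, Matrix.smul_mulVec, Matrix.one_mulVec]
      exact Submodule.smul_mem _ _ hw) with h | h
    · exact hv (Submodule.span_singleton_eq_bot.1 h)
    · have h8 := finrank_span_singleton (K := F) hv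
      rw [h, finrank_top] at h8
      simp at h8
  have hcK : (c : Matrix (Fin 3) (Fin 3) F) ∈ K := by
    refine mem_of_comm hK haK hns ?_
    rw [← Units.val_mul, ← Units.val_mul, hca]
  have h1 := pow_eq_one_of_mem_SU hF hK hadj hcK hcS
  exact mem_zpowers_of_pow hK hcK haK (by rw [ha]; exact h1)

/-- an element normalising `⟨a⟩` -/
theorem order_three {a b : GL (Fin 3) F} (haS : a ∈ SUg 3 F 3) (ha : orderOf a = 7) (hbS : b ∈ SUg 3 F 3)
    (hab : b * a * b⁻¹ = a ^ 2) : b ^ 3 = 1 ∧ b ≠ 1 := by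
  have h1 : ∀ k : ℕ, b * a ^ k * b⁻¹ = a ^ (2 * k) := by
    intro k
    rw [← conj_pow, hab, ← pow_mul]
  have h2 : b ^ 3 * a = a * b ^ 3 := by
    have h3 : b ^ 3 * a * (b ^ 3)⁻¹ = a := by
      calc b ^ 3 * a * (b ^ 3)⁻¹ = b * (b * (b * a ^ 1 * b⁻¹) * b⁻¹) * b⁻¹ := by
            have e : b ^ 3 = b * b * b := by rw [pow_succ, pow_two]
            rw [e]
            simp only [_root_.mul_inv_rev, mul_assoc, pow_one]
        _ = a ^ 8 := by rw [h1, h1, h1]
        _ = a := by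
          rw [show 8 = 7 + 1 by norm_num, pow_add, ← ha, pow_orderOf_eq_one, one_mul, pow_one]
    exact mul_inv_eq_iff_eq_mul.1 h3
  have h3 := cent_seven hF haS ha ((SUg 3 F 3).pow_mem hbS 3) h2
  obtain ⟨k, hk⟩ := mem_powers_iff_mem_zpowers.2 h3
  have hk' : a ^ k = b ^ 3 := hk
  refine ⟨?_, ?_⟩
  · have h4 := h1 k
    rw [hk'] at h4
    have h5 : b * b ^ 3 * b⁻¹ = b ^ 3 := by group
    rw [h5, mul_comm 2 k, pow_mul, hk'] at h4
    have h6 : b ^ 3 * 1 = b ^ 3 * b ^ 3 := by rw [mul_one, ← sq]; exact h4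
    exact (mul_left_cancel h6).symm
  · rintro rfl
    have h4 := h1 1
    rw [one_mul, inv_one, mul_one, pow_one, mul_one] at h4
    have h5 : a * 1 = a * a := by rw [mul_one, ← sq]; exact h4
    have h6 := mul_left_cancel h5
    rw [← h6, orderOf_one] at ha
    norm_num at ha

end three

end Cfsg.Agent.H950.MC
end

private theorem dce_038a2418b628 : _root_.True := by
  try have : _root_.True := by simp only [_root_.Cfsg.Agent.H950.MC.ex.eq_1]
  try have : _root_.True := by simp only [_root_.Cfsg.Agent.H950.MC.nil.eq_1]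
  try have : _root_.True := by simp only [_root_.Cfsg.Agent.H950.MC.pre.eq_1]
  exact _root_.True.intro
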